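import Groth.Prelude.Def_Red2
import Groth.Agent.GrpschAbsch.GaAdd
import Groth.Agent.AlgGrp2.LineLaws
import Mathlib.AlgebraicGeometry.AffineSpace
import Mathlib.AlgebraicGeometry.Pullbacks

/-!
# Objects birational to affine space
-/

set_option autoImplicit false
universe u

open CategoryTheory CategoryTheory.Limits MonoidalCategory CartesianMonoidalCategory AlgebraicGeometry

noncomputable section

namespace Groth.AlgGrpRat

variable {k : Type u} [Field k]

local notation "𝕊" => Spec (CommRingCat.of k)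

/-- Affine space as an object over the field. -/
def An (k : Type u) [Field k] (n : ℕ) : Over (Spec (CommRingCat.of k)) :=
  Over.mk (𝔸(ULift.{u} (Fin n); Spec (CommRingCat.of k)) ↘ Spec (CommRingCat.of k))

/-- The coordinates of a point of affine space. -/
def cf {n : ℕ} {T : Over 𝕊} (g : T ⟶ An k n) (i : Fin n) : Γ(T.left, ⊤) :=
  g.left.appTop (AffineSpace.coord 𝕊 ⟨i⟩)

/-- The point with given coordinates. -/
def ofVec {n : ℕ} {T : Over 𝕊} (v : Fin n → Γ(T.left, ⊤)) : T ⟶ An k n :=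
  Over.homMk (AffineSpace.homOfVector T.hom fun i => v i.down) (AffineSpace.homOfVector_over _ _)

theorem cf_ofVec {n : ℕ} {T : Over 𝕊} (v : Fin n → Γ(T.left, ⊤)) (i : Fin n) : cf (ofVec v) i = v i :=
  AffineSpace.homOfVector_appTop_coord _ _ _

theorem An_ext {n : ℕ} {T : Over 𝕊} {g h : T ⟶ An k n} (e : ∀ i, cf g i = cf h i) : g = h :=
  Over.OverMorphism.ext (AffineSpace.hom_ext ((Over.w g).trans (Over.w h).symm) fun i => e i.down)

theorem cf_comp {n : ℕ} {T T' : Over 𝕊} (f : T' ⟶ T) (g : T ⟶ An k n) (i : Fin n) :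
    cf (f ≫ g) i = f.left.appTop (cf g i) := rfl

/-- Two affine spaces multiply to an affine space. -/
def tensorAn (a b : ℕ) : An k a ⊗ An k b ≅ An k (a + b) where
  hom := ofVec (Fin.addCases (fun i => cf (fst _ _) i) (fun i => cf (snd _ _) i))
  inv := lift (ofVec fun i => cf (𝟙 _) (Fin.castAdd b i)) (ofVec fun i => cf (𝟙 _) (Fin.natAdd a i))
  hom_inv_id := by
    refine CartesianMonoidalCategory.hom_ext _ _ ?_ ?_ <;> refine An_ext fun i => ?_
    · rw [Category.assoc, lift_fst, Category.id_comp, cf_comp, cf_ofVec, ← cf_comp, Category.comp_id,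
        cf_ofVec, Fin.addCases_left]
    · rw [Category.assoc, lift_snd, Category.id_comp, cf_comp, cf_ofVec, ← cf_comp, Category.comp_id,
        cf_ofVec, Fin.addCases_right]
  inv_hom_id := An_ext fun i => by
    rw [cf_comp, cf_ofVec]
    induction i using Fin.addCases with
    | left i => rw [Fin.addCases_left, ← cf_comp, lift_fst, cf_ofVec]
    | right i => rw [Fin.addCases_right, ← cf_comp, lift_snd, cf_ofVec]

/-- The affine line is the additive group. -/
theorem exists_iso_Ga : ∃ _ : An k 1 ≅ Red.Ga 𝕊, True := by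
  obtain ⟨φ, hφ⟩ := Groth.GrpschAbsch.gaFn_surjective (An k 1) (cf (𝟙 (An k 1)) 0)
  let ψ : Red.Ga 𝕊 ⟶ An k 1 := ofVec fun _ => Red.gaFn (𝟙 (Red.Ga 𝕊))
  refine ⟨⟨φ, ψ, An_ext fun i => ?_, Groth.GrpschAbsch.gaFn_injective ?_⟩, trivial⟩
  · obtain rfl : i = 0 := Subsingleton.elim _ _
    rw [cf_comp, cf_ofVec, ← Groth.GrpschAbsch.gaFn_comp, Category.comp_id, hφ]
  · rw [Groth.GrpschAbsch.gaFn_comp, hφ]
    exact (cf_comp ψ (𝟙 _) 0).symm.trans ((congrArg (cf · 0) (Category.comp_id ψ)).trans (cf_ofVec _ _))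

theorem isIso_left {X Y : Over 𝕊} (e : X ⟶ Y) [IsIso e] : IsIso e.left :=
  inferInstanceAs (IsIso ((Over.forget _).map e))

theorem isOpenImmersion_tensor {X X' Y Y' : Over 𝕊} (f : X ⟶ X') (g : Y ⟶ Y') [IsOpenImmersion f.left]
    [IsOpenImmersion g.left] : IsOpenImmersion (tensorHom f g).left := by
  rw [Over.tensorHom_left]
  exact MorphismProperty.pullbackMap (P := @IsOpenImmersion) ‹_› ‹_› (Over.w f).symm (Over.w g).symm

/-- An open subobject of the object is an open subobject of affine space. -/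
def IsRat (X : Over 𝕊) : Prop :=
  ∃ (n : ℕ) (W : Over 𝕊) (a : W ⟶ X) (b : W ⟶ An k n),
    IsOpenImmersion a.left ∧ IsOpenImmersion b.left ∧ Nonempty W.left

theorem IsRat.of_openImmersion {X Y : Over 𝕊} (h : IsRat X) (f : X ⟶ Y) [IsOpenImmersion f.left] : IsRat Y := by
  obtain ⟨n, W, a, b, ha, hb, hW⟩ := h
  exact ⟨n, W, a ≫ f, b, by rw [Over.comp_left]; infer_instance, hb, hW⟩

theorem IsRat.of_iso {X Y : Over 𝕊} (h : IsRat X) (e : X ≅ Y) : IsRat Y :=
  have := isIso_left e.hom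
  h.of_openImmersion e.hom

theorem isRat_An (n : ℕ) : IsRat (An k n) :=
  ⟨n, An k n, 𝟙 _, 𝟙 _, inferInstanceAs (IsOpenImmersion (𝟙 _)), inferInstanceAs (IsOpenImmersion (𝟙 _)),
    ⟨(AffineSpace.SpecIso (ULift.{u} (Fin n)) (CommRingCat.of k)).inv
      ⟨⊥, (Ideal.isPrime_bot : (⊥ : Ideal (MvPolynomial (ULift.{u} (Fin n)) k)).IsPrime)⟩⟩⟩

theorem isRat_Ga : IsRat (Red.Ga 𝕊) := (isRat_An 1).of_iso exists_iso_Ga.choose

theorem nonempty_tensor {X Y : Over 𝕊} [Nonempty X.left] [Nonempty Y.left] : Nonempty (X ⊗ Y).left := by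
  obtain ⟨x⟩ := ‹Nonempty X.left›
  obtain ⟨y⟩ := ‹Nonempty Y.left›
  obtain ⟨z, -, -⟩ := Scheme.Pullback.exists_preimage_pullback (f := X.hom) (g := Y.hom) x y (Subsingleton.elim _ _)
  exact ⟨z⟩

theorem IsRat.tensor {X Y : Over 𝕊} (hX : IsRat X) (hY : IsRat Y) : IsRat (X ⊗ Y) := by
  obtain ⟨n, W, a, b, _, _, _⟩ := hX
  obtain ⟨m, W', a', b', _, _, _⟩ := hY
  have hopen := isOpenImmersion_tensor a a'
  have := isOpenImmersion_tensor b b'
  have := isIso_left (tensorAn (k := k) n m).hom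
  exact ⟨n + m, W ⊗ W', tensorHom a a', tensorHom b b' ≫ (tensorAn n m).hom, hopen, by
    rw [Over.comp_left]; infer_instance, nonempty_tensor⟩

end Groth.AlgGrpRat
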