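import Groth.Agent.Misc1.Dyn.Connected
import Groth.Agent.AlgGrpRat.Basic

/-!
# The open cell as a product
-/

set_option autoImplicit false
set_option linter.style.haveILetI false
set_option linter.unusedSectionVars false
universe u

open CategoryTheory CategoryTheory.Limits MonoidalCategory CartesianMonoidalCategory AlgebraicGeometry
open TensorProduct WithConv
open Groth.Misc1.Dyn (post negI oneI)

noncomputable section

namespace Groth.AlgGrpRat

variable {k : Type u} [Field k]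

/-- The spectrum of a tensor product is the product. -/
theorem exists_tensor_iso (B C : Type u) [CommRing B] [Algebra k B] [CommRing C] [Algebra k C] :
    ∃ _ : CoactBr.sp k B ⊗ CoactBr.sp k C ≅ CoactBr.sp k (B ⊗[k] C), True :=
  ⟨Over.isoMk (pullbackSpecIso k B C) (by
    show (pullbackSpecIso k B C).hom ≫ Spec.map (CommRingCat.ofHom (algebraMap k (B ⊗[k] C))) =
      pullback.fst _ _ ≫ Spec.map (CommRingCat.ofHom (algebraMap k B))
    rw [← pullbackSpecIso_hom_fst k B C, Category.assoc, ← Spec.map_comp]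
    rfl), trivial⟩

theorem IsRat.sp_tensor {B C : Type u} [CommRing B] [Algebra k B] [CommRing C] [Algebra k C]
    (hB : IsRat (CoactBr.sp k B)) (hC : IsRat (CoactBr.sp k C)) : IsRat (CoactBr.sp k (B ⊗[k] C)) :=
  (hB.tensor hC).of_iso (exists_tensor_iso B C).choose

theorem IsRat.sp_algEquiv {B C : Type u} [CommRing B] [Algebra k B] [CommRing C] [Algebra k C]
    (hB : IsRat (CoactBr.sp k B)) (e : C ≃ₐ[k] B) : IsRat (CoactBr.sp k C) :=
  hB.of_iso
    { hom := CoactBr.pt e.toAlgHom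
      inv := CoactBr.pt e.symm.toAlgHom
      hom_inv_id := by rw [← CoactBr.pt_comp, ← CoactBr.pt_id]; exact congrArg CoactBr.pt (AlgHom.ext fun x => by simp)
      inv_hom_id := by rw [← CoactBr.pt_comp, ← CoactBr.pt_id]; exact congrArg CoactBr.pt (AlgHom.ext fun x => by simp) }

variable {A : Type u} [CommRing A] [HopfAlgebra k A] (lam : A →ₐc[k] LaurentPolynomial k)

/-- The attractor is the product of the centralizer and the contracted subgroup. -/
theorem exists_levi_algEquiv (Z : Ideal A)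
    (hZ : Dyn.Represents k A Z (fun R _ _ g =>
      Dyn.conjOrbit k A lam R g = (IsScalarTower.toAlgHom k R (LaurentPolynomial R)).comp g))
    (hle : negI lam ≤ Z) :
    Nonempty ((A ⧸ negI lam) ≃ₐ[k] (A ⧸ Z) ⊗[k] (A ⧸ oneI lam)) := by
  let R₀ := (A ⧸ Z) ⊗[k] (A ⧸ oneI lam)
  let π : A →ₐ[k] A ⧸ negI lam := Ideal.Quotient.mkₐ k _
  let z₀ : WithConv (A →ₐ[k] R₀) := toConv (Algebra.TensorProduct.includeLeft.comp (Ideal.Quotient.mkₐ k Z))
  let u₀ : WithConv (A →ₐ[k] R₀) :=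
    toConv (Algebra.TensorProduct.includeRight.comp (Ideal.Quotient.mkₐ k (oneI lam)))
  have hz0 : ∀ a ∈ Z, z₀.ofConv a = 0 := fun a ha => by simp [z₀, Ideal.Quotient.eq_zero_iff_mem.2 ha]
  have hu0 : ∀ a ∈ oneI lam, u₀.ofConv a = 0 := fun a ha => by simp [u₀, Ideal.Quotient.eq_zero_iff_mem.2 ha]
  have hu1 : Dyn.LimIsOne k A lam R₀ u₀.ofConv := (Groth.Misc1.Dyn.represents_oneI lam R₀ u₀.ofConv).1 hu0
  have hg0 : Dyn.LimExists k A lam R₀ (z₀ * u₀).ofConv := Groth.Misc1.Dyn.limExists_mul lam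
    ((Groth.Misc1.Dyn.represents_negI lam R₀ z₀.ofConv).1 fun a ha => hz0 a (hle ha))
    (by obtain ⟨h, hh, -⟩ := hu1; exact ⟨h, hh⟩)
  let θ : A ⧸ negI lam →ₐ[k] R₀ := Ideal.Quotient.liftₐ (negI lam) (z₀ * u₀).ofConv
    ((Groth.Misc1.Dyn.represents_negI lam R₀ (z₀ * u₀).ofConv).2 hg0)
  obtain ⟨⟨z, u⟩, ⟨hz, hu, hzu⟩, -⟩ := Groth.Misc1.Dyn.existsUnique_decomp lam π
    ((Groth.Misc1.Dyn.represents_negI lam (A ⧸ negI lam) π).1 fun a ha => Ideal.Quotient.eq_zero_iff_mem.2 ha)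
  have hzZ : ∀ a ∈ Z, z a = 0 := (hZ _ z).2 hz
  have huU : ∀ a ∈ oneI lam, u a = 0 := (Groth.Misc1.Dyn.represents_oneI lam _ u).2 hu
  have hmul : toConv z * toConv u = toConv π := by
    rw [Groth.Sga3.ConvPoints.conv3_eq] at hzu
    exact (_root_.mul_one _).symm.trans (WithConv.ofConv_injective hzu)
  let η : R₀ →ₐ[k] A ⧸ negI lam := Algebra.TensorProduct.lift (Ideal.Quotient.liftₐ Z z hzZ)
    (Ideal.Quotient.liftₐ (oneI lam) u huU) (fun _ _ => Commute.all _ _)
  have hη1 : post η z₀ = toConv z := WithConv.ofConv_injective (AlgHom.ext fun a => by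
    show η (Ideal.Quotient.mk Z a ⊗ₜ[k] 1) = z a
    exact (Algebra.TensorProduct.lift_tmul _ _ _ _ _).trans (by rw [map_one, _root_.mul_one]; rfl))
  have hη2 : post η u₀ = toConv u := WithConv.ofConv_injective (AlgHom.ext fun a => by
    show η (1 ⊗ₜ[k] Ideal.Quotient.mk (oneI lam) a) = u a
    exact (Algebra.TensorProduct.lift_tmul _ _ _ _ _).trans (by rw [map_one, _root_.one_mul]; rfl))
  have hθπ : post θ (toConv π) = z₀ * u₀ := WithConv.ofConv_injective (AlgHom.ext fun a => rfl)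
  refine ⟨AlgEquiv.ofAlgHom θ η ?_ (Ideal.Quotient.algHom_ext k ?_)⟩
  · obtain ⟨p, -, huniq⟩ := Groth.Misc1.Dyn.existsUnique_decomp lam (z₀ * u₀).ofConv hg0
    have h0 := huniq (z₀.ofConv, u₀.ofConv) ⟨(hZ R₀ _).1 hz0, hu1, by
      rw [Groth.Sga3.ConvPoints.conv3_eq]
      exact congrArg WithConv.ofConv (_root_.mul_one (z₀ * u₀))⟩
    have hu' : Dyn.LimIsOne k A lam R₀ (θ.comp u) :=
      (Groth.Misc1.Dyn.represents_oneI lam R₀ (θ.comp u)).1 fun a ha => by
        rw [AlgHom.comp_apply, huU a ha, map_zero]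
    have h1 := huniq (θ.comp z, θ.comp u) ⟨(hZ R₀ _).1 fun a ha => by
      rw [AlgHom.comp_apply, hzZ a ha, map_zero], hu', by
      rw [Groth.Sga3.ConvPoints.conv3_eq]
      refine congrArg WithConv.ofConv ((_root_.mul_one (post θ (toConv z) * post θ (toConv u))).trans ?_)
      rw [← map_mul, hmul, hθπ]⟩
    have e := h1.trans h0.symm
    have e1 : θ.comp z = z₀.ofConv := congrArg Prod.fst e
    have e2 : θ.comp u = u₀.ofConv := congrArg Prod.snd e
    refine Algebra.TensorProduct.ext (Ideal.Quotient.algHom_ext k (AlgHom.ext fun a => ?_))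
      (Ideal.Quotient.algHom_ext k (AlgHom.ext fun a => ?_))
    · simpa [η, z₀] using DFunLike.congr_fun e1 a
    · simpa [η, u₀] using DFunLike.congr_fun e2 a
  · have h : post η (post θ (toConv π)) = toConv π := by rw [hθπ, map_mul, hη1, hη2, hmul]
    exact AlgHom.ext fun a => DFunLike.congr_fun (congrArg WithConv.ofConv h) a

variable [Algebra.FiniteType k A]

/-- The open cell. -/
theorem exists_cell (lamNeg : A →ₐc[k] LaurentPolynomial k)
    (hneg : (lamNeg : A →ₐ[k] LaurentPolynomial k) = Dyn.negParam k A lam) :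
    ∃ μ : CoactBr.sp k ((A ⧸ oneI lamNeg) ⊗[k] (A ⧸ negI lam)) ⟶ CoactBr.sp k A, IsOpenImmersion μ.left := by
  obtain ⟨n, ⟨W⟩⟩ := Groth.Misc1.Dyn.exists_wcoord lam
  refine ⟨CoactBr.pt ((Algebra.TensorProduct.map (Ideal.Quotient.mkₐ k (oneI lamNeg))
    (Ideal.Quotient.mkₐ k (negI lam))).comp (Bialgebra.comulAlgHom k A)), ?_⟩
  rw [CoactBr.pt_left]
  exact Groth.Misc1.Dyn.isOpenImmersion_cell W lamNeg hneg _ _ (Groth.Misc1.Dyn.represents_negI lam)
    (Groth.Misc1.Dyn.represents_oneI lamNeg)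

/-- The contracted subgroup of a reduced group is reduced. -/
theorem isReduced_oneI [_root_.IsReduced A] (lamNeg : A →ₐc[k] LaurentPolynomial k)
    (hneg : (lamNeg : A →ₐ[k] LaurentPolynomial k) = Dyn.negParam k A lam) :
    _root_.IsReduced (A ⧸ oneI lamNeg) := by
  obtain ⟨μ, hμ⟩ := exists_cell lam lamNeg hneg
  haveI := Groth.Misc1.Dyn.isHopfIdeal_negI lam
  have : IsReduced (CoactBr.sp k A).left := inferInstanceAs (IsReduced (Spec (CommRingCat.of A)))
  have h : IsReduced (CoactBr.sp k ((A ⧸ oneI lamNeg) ⊗[k] (A ⧸ negI lam))).left :=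
    isReduced_of_isOpenImmersion μ.left
  have : _root_.IsReduced ((A ⧸ oneI lamNeg) ⊗[k] (A ⧸ negI lam)) := (affine_isReduced_iff (CommRingCat.of _)).1 h
  let r : (A ⧸ oneI lamNeg) ⊗[k] (A ⧸ negI lam) →ₐ[k] A ⧸ oneI lamNeg :=
    Algebra.TensorProduct.lift (AlgHom.id k _) ((Algebra.ofId k _).comp (Bialgebra.counitAlgHom k (A ⧸ negI lam)))
      (fun _ _ => Commute.all _ _)
  refine isReduced_of_injective
    (Algebra.TensorProduct.includeLeft : A ⧸ oneI lamNeg →ₐ[k] (A ⧸ oneI lamNeg) ⊗[k] (A ⧸ negI lam))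
    (Function.LeftInverse.injective (g := r) fun x => ?_)
  simp [r]

end Groth.AlgGrpRat
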