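import Groth.Agent.NeronArea.UnirationalExtension
import Groth.Agent.AlgGrpRat.Basic

/-!
# Extensions by a central additive group
-/

set_option autoImplicit false
set_option linter.style.haveILetI false
universe u

open CategoryTheory CategoryTheory.Limits MonoidalCategory CartesianMonoidalCategory MonObj GrpObj
  AlgebraicGeometry

open scoped TensorProduct

noncomputable section

namespace Groth.AlgGrpRat

open Groth.NeronArea.GaTorsor

variable {S : Scheme.{u}} {K : Type u} [Field K] (t : Spec (CommRingCat.of K) ⟶ S)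

/-- A morphism with central image. -/
def IsCentral {X G : Over S} [GrpObj G] (i : X ⟶ G) : Prop :=
  ∀ (T : Over S) (a : T ⟶ X) (g : T ⟶ G), g * (a ≫ i) = (a ≫ i) * g

variable {G Q : Over S} [GrpObj G] [GrpObj Q] (q : G ⟶ Q) [IsMonHom q]
  (i : Red.Ga S ⟶ G) [IsMonHom i]

/-- A point over a field of the quotient by the additive group lifts. -/
theorem exists_lift_point (hq : Groth.AlgGrp1.IsCover q) (hker : AlgGrp.IsKernel i q)
    (hc' : IsCentral i) (y : Over.mk t ⟶ Q) : ∃ x : Over.mk t ⟶ G, x ≫ q = y := by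
  have := Groth.AlgGrp1.IsKernel.mono hker
  obtain ⟨T', c, x', hc, hx'⟩ := hq.exists_lift y
  obtain ⟨v, -⟩ := hc.surj.surj (IsLocalRing.closedPoint K)
  obtain ⟨_, ⟨A, hA, rfl⟩, hvA, -⟩ := T'.left.isBasis_affineOpens.exists_subset_of_mem_open (Set.mem_univ v) isOpen_univ
  let L : Type u := Γ(T'.left, A)
  let m : Spec (CommRingCat.of L) ⟶ Spec (CommRingCat.of K) := hA.fromSpec ≫ c.left
  letI : Algebra K L := (Spec.preimage m).hom.toAlgebra
  have hm : Spec.map (CommRingCat.ofHom (algebraMap K L)) = m := Spec.map_preimage m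
  have : Nonempty (Spec (CommRingCat.of L)) := ⟨hA.primeIdealOf ⟨v, hvA⟩⟩
  have : Nontrivial L := PrimeSpectrum.nonempty_iff_nontrivial.1 this
  let e : sp t L ⟶ T' := Over.homMk hA.fromSpec (by
    show hA.fromSpec ≫ T'.hom = Spec.map _ ≫ t
    rw [hm, ← Over.w c, Category.assoc]; rfl)
  let p : sp t L ⟶ Over.mk t := Over.homMk (Spec.map (CommRingCat.ofHom (algebraMap K L))) rfl
  have hp : Groth.AlgGrp1.IsCover p := by
    have := hc.lfp
    refine ⟨?_, ⟨fun w => ⟨hA.primeIdealOf ⟨v, hvA⟩, Subsingleton.elim (α := ↥(Spec (CommRingCat.of K))) _ _⟩⟩, ?_⟩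
    · show Flat (Spec.map _)
      infer_instance
    · show LocallyOfFinitePresentation (Spec.map _)
      rw [hm]; infer_instance
  have hep : e ≫ c = p := Over.OverMorphism.ext hm.symm
  obtain ⟨x, hxq⟩ : ∃ x : sp t L ⟶ G, x ≫ q = p ≫ y :=
    ⟨e ≫ x', by rw [Category.assoc, hx', ← Category.assoc, hep]⟩
  let d₁ : sp t (L ⊗[K] L) ⟶ sp t L := sph Algebra.TensorProduct.includeLeft
  let d₂ : sp t (L ⊗[K] L) ⟶ sp t L := sph Algebra.TensorProduct.includeRight
  have hd : d₁ ≫ p = d₂ ≫ p := by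
    ext1
    show Spec.map _ ≫ Spec.map _ = Spec.map _ ≫ Spec.map _
    rw [← Spec.map_comp, ← Spec.map_comp, ← CommRingCat.ofHom_comp, ← CommRingCat.ofHom_comp]
    congr 2
    ext r
    exact (Algebra.TensorProduct.includeLeft.commutes r).trans (Algebra.TensorProduct.includeRight.commutes r).symm
  obtain ⟨z, hz⟩ := Groth.AlgGrp1.IsKernel.exists_lift hker ((d₁ ≫ x) / (d₂ ≫ x))
    (by rw [GrpObj.div_comp, Category.assoc, Category.assoc, hxq, ← Category.assoc, hd, Category.assoc, div_self'])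
  let g₁₂ : L ⊗[K] L →ₐ[K] L ⊗[K] (L ⊗[K] L) :=
    Algebra.TensorProduct.map (AlgHom.id K L) Algebra.TensorProduct.includeLeft
  let g₁₃ : L ⊗[K] L →ₐ[K] L ⊗[K] (L ⊗[K] L) :=
    Algebra.TensorProduct.map (AlgHom.id K L) Algebra.TensorProduct.includeRight
  let g₂₃ : L ⊗[K] L →ₐ[K] L ⊗[K] (L ⊗[K] L) := Algebra.TensorProduct.includeRight
  have hsph : ∀ {B C D : Type u} [CommRing B] [Algebra K B] [CommRing C] [Algebra K C] [CommRing D] [Algebra K D]
      (f : B →ₐ[K] C) (g : C →ₐ[K] D), (sph g : sp t D ⟶ sp t C) ≫ sph f = sph (g.comp f) := by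
    intros
    ext1
    exact (Spec.map_comp _ _).symm
  have hz3 : sph g₁₃ ≫ z = (sph g₁₂ ≫ z) * (sph g₂₃ ≫ z) := by
    rw [← cancel_mono i, MonObj.mul_comp, Category.assoc, Category.assoc, Category.assoc, hz,
      GrpObj.comp_div, GrpObj.comp_div, GrpObj.comp_div]
    simp only [d₁, d₂, ← Category.assoc, hsph]
    have e1 : g₁₃.comp Algebra.TensorProduct.includeLeft = g₁₂.comp Algebra.TensorProduct.includeLeft := by
      ext a; simp [g₁₂, g₁₃]
    have e2 : g₁₂.comp Algebra.TensorProduct.includeRight = g₂₃.comp Algebra.TensorProduct.includeLeft := by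
      ext a; simp [g₁₂, g₂₃]
    have e3 : g₁₃.comp Algebra.TensorProduct.includeRight = g₂₃.comp Algebra.TensorProduct.includeRight := by
      ext a; simp [g₁₃, g₂₃]
    rw [e1, e2, e3, div_mul_div_cancel]
  have hcoc : g₁₃ (fn z) = g₁₂ (fn z) + g₂₃ (fn z) := by
    rw [← fn_comp, ← fn_comp, ← fn_comp, hz3, fn_mul]
  obtain ⟨b, hb⟩ := exists_coboundary (fn z) hcoc
  obtain ⟨zb, hzb⟩ := fn_surjective (t := t) b
  let x₂ := x * (zb ≫ i)
  have hx₂ : x₂ ≫ q = p ≫ y := by
    rw [MonObj.mul_comp, hxq, Category.assoc, Groth.AlgGrp1.IsKernel.comp_eq_one hker, MonObj.comp_one, _root_.mul_one]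
  have heq : d₁ ≫ x₂ = d₂ ≫ x₂ := by
    have hzz : z * (d₁ ≫ zb) = d₂ ≫ zb := fn_injective (by
      rw [fn_mul, fn_comp, fn_comp, hzb, hb, Algebra.TensorProduct.includeLeft_apply,
        Algebra.TensorProduct.includeRight_apply, sub_add_cancel])
    have h1 : (d₁ ≫ x) = (d₂ ≫ x) * (z ≫ i) := by
      rw [hc' _ z (d₂ ≫ x), hz, div_mul_cancel]
    rw [MonObj.comp_mul, MonObj.comp_mul, ← Category.assoc, ← Category.assoc, ← hzz, MonObj.mul_comp, h1,
      _root_.mul_assoc]
  obtain ⟨x₀, hx₀⟩ := hp.exists_desc x₂ fun T a a' haa => by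
    let l : T.left ⟶ Spec (CommRingCat.of (L ⊗[K] L)) :=
      pullback.lift a.left a'.left (congrArg CommaMorphism.left haa) ≫ (pullbackSpecIso K L L).hom
    have h1 : l ≫ d₁.left = a.left := by
      refine (Category.assoc _ _ _).trans ?_
      erw [pullbackSpecIso_hom_fst]
      exact pullback.lift_fst _ _ _
    have h2 : l ≫ d₂.left = a'.left := by
      refine (Category.assoc _ _ _).trans ?_
      erw [pullbackSpecIso_hom_snd]
      exact pullback.lift_snd _ _ _
    let lo : T ⟶ sp t (L ⊗[K] L) := Over.homMk l (by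
      rw [← Over.w d₁, reassoc_of% h1]; exact Over.w a)
    rw [show a = lo ≫ d₁ from Over.OverMorphism.ext h1.symm, show a' = lo ≫ d₂ from Over.OverMorphism.ext h2.symm,
      Category.assoc, Category.assoc, heq]
  exact ⟨x₀, hp.cancel (by rw [← Category.assoc, hx₀, hx₂])⟩

/-- An extension of a rational object by a central additive group is rational. -/
theorem isRat_of_central_Ga {k : Type u} [Field k] {G Q : Over (Spec (CommRingCat.of k))} [GrpObj G] [GrpObj Q]
    (q : G ⟶ Q) [IsMonHom q] [LocallyOfFiniteType G.hom] [LocallyOfFiniteType Q.hom] [Flat q.left]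
    [Surjective q.left] (i : Red.Ga (Spec (CommRingCat.of k)) ⟶ G) [IsMonHom i]
    (hker : AlgGrp.IsKernel i q) (hc : IsCentral i) (hQ : IsRat Q) : IsRat G := by
  obtain ⟨n, W, a, b, _, _, _⟩ := hQ
  have hq := Groth.AlgGrp1.isCover q
  have := Groth.AlgGrp1.IsKernel.mono hker
  have := Groth.AlgGrp1.isSeparated_grpObj Q
  have : IsIntegral (An k n).left := isIntegral_affineSpace k _
  have : IsIntegral W.left := isIntegral_of_isOpenImmersion b.left
  -- the generic point lifts
  let η₀ := genericPoint W.left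
  let gen : Spec (CommRingCat.of W.left.functionField) ⟶ W.left := W.left.fromSpecStalk η₀
  obtain ⟨x, hx⟩ := exists_lift_point (gen ≫ W.hom) q i hq hker hc
    (Over.homMk (gen ≫ a.left) (by rw [Category.assoc, Over.w a]; rfl))
  obtain ⟨U, hηU, ψ', hψ'x, hψ'⟩ := spread_out_of_isGermInjective' W.hom G.hom (x := η₀) x.left (Over.w x)
  have hU0 : Nonempty (U : Scheme.{u}) := ⟨⟨η₀, hηU⟩⟩
  have : IsIntegral (U : Scheme.{u}) := isIntegral_of_isOpenImmersion U.ι
  have hagree : ψ' ≫ q.left = U.ι ≫ a.left := by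
    let j := U.fromSpecStalkOfMem η₀ hηU
    have hj : IsDominant j := ⟨by
      have hj0 : j (IsLocalRing.closedPoint _) = (⟨η₀, hηU⟩ : U) := U.ι.isEmbedding.injective (by
        rw [← Scheme.Hom.comp_apply, Scheme.Opens.fromSpecStalkOfMem_ι, Scheme.fromSpecStalk_closedPoint]
        rfl)
      intro z
      have hmem : ({(⟨η₀, hηU⟩ : U)} : Set (U : Scheme.{u})) ⊆ Set.range j.base :=
        Set.singleton_subset_iff.2 ⟨_, hj0⟩
      refine closure_mono hmem ?_
      refine specializes_iff_mem_closure.1 ?_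
      exact U.ι.isEmbedding.toIsInducing.specializes_iff.1 ((genericPoint_spec W.left).specializes (Set.mem_univ _))⟩
    apply ext_of_isDominant_of_isSeparated Q.hom ?_ j ?_
    · rw [Category.assoc, Over.w q, hψ', Category.assoc, Over.w a]
    · rw [← Category.assoc, ← hψ'x, show x.left ≫ q.left = gen ≫ a.left from congrArg CommaMorphism.left hx,
        ← Category.assoc, Scheme.Opens.fromSpecStalkOfMem_ι]
  let Uo : Over (Spec (CommRingCat.of k)) := Over.mk (U.ι ≫ W.hom)
  let io : Uo ⟶ W := Over.homMk U.ι rfl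
  let σ : Uo ⟶ G := Over.homMk ψ' hψ'
  have hio : IsOpenImmersion io.left := inferInstanceAs (IsOpenImmersion U.ι)
  have hσ : σ ≫ q = io ≫ a := Over.OverMorphism.ext hagree
  -- the preimage of the open is a product
  let P : Over (Spec (CommRingCat.of k)) := Over.mk (pullback.fst q.left (io ≫ a).left ≫ G.hom)
  let p₁ : P ⟶ G := Over.homMk (pullback.fst _ _) rfl
  let p₂ : P ⟶ Uo := Over.homMk (pullback.snd q.left (io ≫ a).left) (by
    show _ = pullback.fst q.left (io ≫ a).left ≫ G.hom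
    rw [← Over.w q, pullback.condition_assoc, Over.w (io ≫ a)])
  have hp : p₁ ≫ q = p₂ ≫ io ≫ a := Over.OverMorphism.ext pullback.condition
  obtain ⟨d, hd⟩ := Groth.AlgGrp1.IsKernel.exists_lift hker (p₁ / (p₂ ≫ σ))
    (by rw [GrpObj.div_comp, hp, Category.assoc, hσ, div_self'])
  let Φ : Uo ⊗ Red.Ga (Spec (CommRingCat.of k)) ⟶ G := (fst _ _ ≫ σ) * (snd _ _ ≫ i)
  have hΦ : Φ ≫ q = fst _ _ ≫ io ≫ a := by
    rw [MonObj.mul_comp, Category.assoc, hσ, Category.assoc, Groth.AlgGrp1.IsKernel.comp_eq_one hker,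
      MonObj.comp_one, _root_.mul_one]
  let θ : Uo ⊗ Red.Ga (Spec (CommRingCat.of k)) ⟶ P :=
    Over.homMk (pullback.lift Φ.left (fst Uo (Red.Ga (Spec (CommRingCat.of k)))).left (congrArg CommaMorphism.left hΦ)) (by
      show pullback.lift _ _ _ ≫ pullback.fst _ _ ≫ G.hom = _
      rw [pullback.lift_fst_assoc, Over.w Φ])
  have hθ₁ : θ ≫ p₁ = Φ := Over.OverMorphism.ext (pullback.lift_fst _ _ _)
  have hθ₂ : θ ≫ p₂ = fst _ _ := Over.OverMorphism.ext (pullback.lift_snd _ _ _)
  have hρ : lift p₂ d ≫ Φ = p₁ := by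
    rw [MonObj.comp_mul, ← Category.assoc, lift_fst, ← Category.assoc, lift_snd, hc _ d, hd, div_mul_cancel]
  have : IsIso θ := by
    refine ⟨lift p₂ d, CartesianMonoidalCategory.hom_ext _ _ ?_ ?_, ?_⟩
    · rw [Category.assoc, lift_fst, hθ₂, Category.id_comp]
    · rw [Category.assoc, lift_snd, Category.id_comp, ← cancel_mono i, Category.assoc, hd, GrpObj.comp_div, hθ₁,
        ← Category.assoc, hθ₂]
      show Φ / (fst _ _ ≫ σ) = _
      rw [show Φ = (snd _ _ ≫ i) * (fst _ _ ≫ σ) from hc _ _ _, mul_div_cancel_right]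
    · refine Over.OverMorphism.ext (pullback.hom_ext ?_ ?_)
      · show ((lift p₂ d ≫ θ) ≫ p₁).left = (𝟙 P ≫ p₁).left
        rw [Category.assoc, hθ₁, hρ, Category.id_comp]
      · show ((lift p₂ d ≫ θ) ≫ p₂).left = (𝟙 P ≫ p₂).left
        rw [Category.assoc, hθ₂, lift_fst, Category.id_comp]
  have : IsOpenImmersion (io ≫ a).left := by rw [Over.comp_left]; infer_instance
  have : IsOpenImmersion p₁.left := inferInstanceAs (IsOpenImmersion (pullback.fst q.left (io ≫ a).left))
  have : IsOpenImmersion Φ.left := by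
    rw [← hθ₁, Over.comp_left]
    have := isIso_left θ
    infer_instance
  exact (IsRat.tensor ⟨n, Uo, 𝟙 _, io ≫ b, inferInstanceAs (IsOpenImmersion (𝟙 _)),
    inferInstanceAs (IsOpenImmersion (U.ι ≫ b.left)), hU0⟩ isRat_Ga).of_openImmersion Φ

end Groth.AlgGrpRat
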