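/- Invertible ideals translated into themselves by the comultiplication are torsion (helper13). -/
import Mathlib
import Groth.Agent.AlgGrp2.UnitsAlg
import Groth.Agent.VarietyBC.TensorAlgClosed

/-!
# Invertible ideals of Hopf algebras compatible with the comultiplication

If `I` is an invertible ideal of the coordinate ring `A` of a connected group such that `Δ I` and
`I ⊗ I` differ by a principal factor, then a power of `I` is principal: the normalised ratio turns
`I` into a coalgebra and the determinant of a matrix of coefficients generates the power.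
-/

set_option autoImplicit false
set_option linter.style.haveILetI false

universe u

open scoped TensorProduct
open Algebra.TensorProduct (includeLeft includeRight)

noncomputable section

namespace Groth.AlgGrpRat.Torsion

open Groth.AlgGrp2 (contract)

variable (k : Type u) [Field k] (A : Type u) [CommRing A] [HopfAlgebra k A]

/-- The comultiplication. -/
abbrev Δ : A →ₐ[k] A ⊗[k] A := Bialgebra.comulAlgHom k A

/-- The counit. -/
abbrev cε : A →ₐ[k] k := Bialgebra.counitAlgHom k A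

/-- `x ↦ x ⊗ 1`. -/
abbrev iL : A →ₐ[k] A ⊗[k] A := includeLeft

/-- `x ↦ 1 ⊗ x`. -/
abbrev iR : A →ₐ[k] A ⊗[k] A := includeRight

/-- Restriction to `G × e`. -/
def e₁ : A ⊗[k] A →ₐ[k] A :=
  (Algebra.TensorProduct.rid k k A).toAlgHom.comp (Algebra.TensorProduct.map (AlgHom.id k A) (cε k A))

/-- Restriction to `e × G`. -/
def e₂ : A ⊗[k] A →ₐ[k] A :=
  (Algebra.TensorProduct.lid k A).toAlgHom.comp (Algebra.TensorProduct.map (cε k A) (AlgHom.id k A))

@[simp] lemma e₁_tmul (x y : A) : e₁ k A (x ⊗ₜ y) = cε k A y • x := by simp [e₁]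
@[simp] lemma e₂_tmul (x y : A) : e₂ k A (x ⊗ₜ y) = cε k A x • y := by simp [e₂]

@[simp] lemma e₁_comul (x : A) : e₁ k A (Δ k A x) = x := by
  show TensorProduct.rid k A ((Coalgebra.counit (R := k)).lTensor A (Coalgebra.comul (R := k) x)) = x
  rw [Coalgebra.lTensor_counit_comul]; simp

@[simp] lemma e₂_comul (x : A) : e₂ k A (Δ k A x) = x := by
  show TensorProduct.lid k A ((Coalgebra.counit (R := k)).rTensor A (Coalgebra.comul (R := k) x)) = x
  rw [Coalgebra.rTensor_counit_comul]; simp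

@[simp] lemma e₁_comul' (x : A) : e₁ k A (Coalgebra.comul (R := k) x) = x := e₁_comul k A x
@[simp] lemma e₂_comul' (x : A) : e₂ k A (Coalgebra.comul (R := k) x) = x := e₂_comul k A x

lemma e₁_iL : (e₁ k A).comp (iL k A) = AlgHom.id k A := AlgHom.ext fun x => by simp
lemma e₂_iR : (e₂ k A).comp (iR k A) = AlgHom.id k A := AlgHom.ext fun x => by simp
lemma e₁_iR : (e₁ k A).comp (iR k A) = (Algebra.ofId k A).comp (cε k A) :=
  AlgHom.ext fun x => by simp [Algebra.algebraMap_eq_smul_one]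
lemma e₂_iL : (e₂ k A).comp (iL k A) = (Algebra.ofId k A).comp (cε k A) :=
  AlgHom.ext fun x => by simp [Algebra.algebraMap_eq_smul_one]

lemma counit_e₁ (z : A ⊗[k] A) : cε k A (e₁ k A z) = cε k A (e₂ k A z) := by
  induction z using TensorProduct.induction_on with
  | zero => simp
  | tmul x y => simp [mul_comm]
  | add a b ha hb => simp only [map_add, ha, hb]

/-- `Δ × 1` on the product. -/
def d₁ : A ⊗[k] A →ₐ[k] A ⊗[k] (A ⊗[k] A) :=
  (Algebra.TensorProduct.assoc k k k A A A).toAlgHom.comp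
    (Algebra.TensorProduct.map (Δ k A) (AlgHom.id k A))

/-- `1 × Δ` on the product. -/
def d₂ : A ⊗[k] A →ₐ[k] A ⊗[k] (A ⊗[k] A) :=
  Algebra.TensorProduct.map (AlgHom.id k A) (Δ k A)

/-- The first two factors. -/
def p₁₂ : A ⊗[k] A →ₐ[k] A ⊗[k] (A ⊗[k] A) :=
  (Algebra.TensorProduct.assoc k k k A A A).toAlgHom.comp
    (includeLeft : A ⊗[k] A →ₐ[k] (A ⊗[k] A) ⊗[k] A)

/-- The last two factors. -/
def p₂₃ : A ⊗[k] A →ₐ[k] A ⊗[k] (A ⊗[k] A) := includeRight

/-- The middle factor evaluated at `e`. -/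
def m₂ : A ⊗[k] (A ⊗[k] A) →ₐ[k] A ⊗[k] A :=
  Algebra.TensorProduct.map (AlgHom.id k A) (e₂ k A)

/-- The first factor evaluated at `e`. -/
def m₁ : A ⊗[k] (A ⊗[k] A) →ₐ[k] A ⊗[k] A :=
  (Algebra.TensorProduct.lid k (A ⊗[k] A)).toAlgHom.comp
    (Algebra.TensorProduct.map (cε k A) (AlgHom.id k (A ⊗[k] A)))

@[simp] lemma d₂_tmul (x y : A) : d₂ k A (x ⊗ₜ y) = x ⊗ₜ[k] Δ k A y := by simp [d₂]
@[simp] lemma d₁_tmul (x y : A) : d₁ k A (x ⊗ₜ y) = p₁₂ k A (Δ k A x) * p₂₃ k A (iR k A y) := by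
  simp only [d₁, p₁₂, p₂₃, AlgHom.comp_apply, Algebra.TensorProduct.map_tmul, AlgHom.id_apply]
  rw [show (Δ k A x) ⊗ₜ[k] y = ((Δ k A x) ⊗ₜ[k] (1 : A)) * (1 ⊗ₜ[k] y) by
    rw [Algebra.TensorProduct.tmul_mul_tmul, mul_one, one_mul], map_mul]
  congr 1
lemma p₁₂_tmul (x y : A) : p₁₂ k A (x ⊗ₜ y) = x ⊗ₜ[k] (y ⊗ₜ[k] (1 : A)) := by simp [p₁₂]
@[simp] lemma p₂₃_apply (z : A ⊗[k] A) : p₂₃ k A z = (1 : A) ⊗ₜ[k] z := rfl

lemma assoc_tmul_eq (z : A ⊗[k] A) (y : A) :
    Algebra.TensorProduct.assoc k k k A A A (z ⊗ₜ y) = p₁₂ k A z * p₂₃ k A (iR k A y) := by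
  rw [show z ⊗ₜ[k] y = (z ⊗ₜ[k] (1 : A)) * (1 ⊗ₜ[k] y) by
    rw [Algebra.TensorProduct.tmul_mul_tmul, mul_one, one_mul], map_mul]
  congr 1

lemma coassoc (x : A) : d₁ k A (Δ k A x) = d₂ k A (Δ k A x) :=
  Coalgebra.coassoc_apply x

lemma m₁_d₁ (z : A ⊗[k] A) : m₁ k A (d₁ k A z) = z := by
  induction z using TensorProduct.induction_on with
  | zero => simp
  | tmul x y =>
    have : ∀ w : A ⊗[k] A, m₁ k A (p₁₂ k A w) = e₂ k A w ⊗ₜ[k] 1 := by
      intro w
      induction w using TensorProduct.induction_on with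
      | zero => simp
      | tmul a b => simp [m₁, p₁₂_tmul, TensorProduct.smul_tmul']
      | add a b ha hb => simp only [map_add, ha, hb, TensorProduct.add_tmul]
    rw [d₁_tmul, map_mul, this, e₂_comul]
    simp [m₁]
  | add a b ha hb => simp only [map_add, ha, hb]

lemma m₁_d₂ (z : A ⊗[k] A) : m₁ k A (d₂ k A z) = Δ k A (e₂ k A z) := by
  induction z using TensorProduct.induction_on with
  | zero => simp
  | tmul x y => simp [m₁]
  | add a b ha hb => simp only [map_add, ha, hb]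

lemma m₁_p₁₂ (z : A ⊗[k] A) : m₁ k A (p₁₂ k A z) = iL k A (e₂ k A z) := by
  induction z using TensorProduct.induction_on with
  | zero => simp
  | tmul x y => simp [m₁, p₁₂_tmul, TensorProduct.smul_tmul']
  | add a b ha hb => simp only [map_add, ha, hb]

lemma m₁_p₂₃ (z : A ⊗[k] A) : m₁ k A (p₂₃ k A z) = z := by simp [m₁]

lemma m₂_d₁ (z : A ⊗[k] A) : m₂ k A (d₁ k A z) = z := by
  induction z using TensorProduct.induction_on with
  | zero => simp
  | tmul x y =>
    have : ∀ w : A ⊗[k] A, m₂ k A (p₁₂ k A w) = iL k A (e₁ k A w) := by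
      intro w
      induction w using TensorProduct.induction_on with
      | zero => simp
      | tmul a b => simp [m₂, p₁₂_tmul, TensorProduct.tmul_smul, TensorProduct.smul_tmul']
      | add a b ha hb => simp only [map_add, ha, hb]
    rw [d₁_tmul, map_mul, this, e₁_comul]
    simp [m₂]
  | add a b ha hb => simp only [map_add, ha, hb]

lemma m₂_d₂ (z : A ⊗[k] A) : m₂ k A (d₂ k A z) = z := by
  induction z using TensorProduct.induction_on with
  | zero => simp
  | tmul x y => simp [m₂]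
  | add a b ha hb => simp only [map_add, ha, hb]

lemma m₂_p₁₂ (z : A ⊗[k] A) : m₂ k A (p₁₂ k A z) = iL k A (e₁ k A z) := by
  induction z using TensorProduct.induction_on with
  | zero => simp
  | tmul a b => simp [m₂, p₁₂_tmul, TensorProduct.tmul_smul, TensorProduct.smul_tmul']
  | add a b ha hb => simp only [map_add, ha, hb]

lemma m₂_p₂₃ (z : A ⊗[k] A) : m₂ k A (p₂₃ k A z) = iR k A (e₂ k A z) := by simp [m₂]

/-- The ideal `I ⊗ I`. -/
abbrev J₂ (I : Ideal A) : Ideal (A ⊗[k] A) := I.map (iL k A) * I.map (iR k A)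

lemma tmul_mem_J₂ {I : Ideal A} {x y : A} (hx : x ∈ I) (hy : y ∈ I) : x ⊗ₜ[k] y ∈ J₂ k A I := by
  rw [show x ⊗ₜ[k] y = iL k A x * iR k A y by simp]
  exact Ideal.mul_mem_mul (Ideal.mem_map_of_mem _ hx) (Ideal.mem_map_of_mem _ hy)

/-- Elements of `I ⊗ I` are sums of pure tensors from `I`. -/
lemma exists_sum_of_mem_J₂ {I : Ideal A} {z : A ⊗[k] A} (hz : z ∈ J₂ k A I) :
    ∃ (n : ℕ) (p q : Fin n → A), (∀ i, p i ∈ I) ∧ (∀ i, q i ∈ I) ∧ z = ∑ i, p i ⊗ₜ[k] q i := by
  let Is : Submodule k A := I.restrictScalars k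
  let N := LinearMap.range (TensorProduct.map Is.subtype Is.subtype)
  have hmul : ∀ c z, z ∈ N → c * z ∈ N := by
    rintro c _ ⟨w, rfl⟩
    induction w using TensorProduct.induction_on with
    | zero => simp
    | add a b ha hb => rw [map_add, mul_add]; exact add_mem ha hb
    | tmul x y =>
      induction c using TensorProduct.induction_on with
      | zero => simp
      | add a b ha hb => rw [add_mul]; exact add_mem ha hb
      | tmul c d =>
        exact ⟨(⟨c * x.1, I.mul_mem_left c x.2⟩ : Is) ⊗ₜ (⟨d * y.1, I.mul_mem_left d y.2⟩ : Is), by simp⟩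
  have hzN : z ∈ N := by
    let N' : Ideal (A ⊗[k] A) :=
      { carrier := N, zero_mem' := zero_mem N, add_mem' := fun ha hb => N.add_mem ha hb,
        smul_mem' := hmul }
    suffices h : J₂ k A I ≤ N' from h hz
    simp only [J₂, Ideal.map]
    rw [Ideal.span_mul_span', Ideal.span_le]
    rintro _ ⟨_, ⟨x, hx, rfl⟩, _, ⟨y, hy, rfl⟩, rfl⟩
    exact ⟨(⟨x, hx⟩ : Is) ⊗ₜ (⟨y, hy⟩ : Is), by simp⟩
  obtain ⟨w, rfl⟩ := hzN
  obtain ⟨S, hS⟩ := TensorProduct.exists_finset w
  let e := S.equivFin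
  refine ⟨S.card, fun i => ((e.symm i).1).1.1, fun i => ((e.symm i).1).2.1,
    fun i => ((e.symm i).1).1.2, fun i => ((e.symm i).1).2.2, ?_⟩
  rw [hS, map_sum, ← Finset.sum_coe_sort, ← e.symm.sum_comp]
  simp

section

variable {k A}
variable [IsAlgClosed k] [IsDomain A] [Algebra.FiniteType k A]

omit [IsAlgClosed k] [Algebra.FiniteType k A] [IsDomain A] in
lemma comul_injective : Function.Injective (Δ k A) := fun x y h => by
  simpa using congrArg (e₁ k A) h

omit [IsDomain A] [Algebra.FiniteType k A] [IsAlgClosed k] in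
lemma map_eq_top {I : Ideal A} {s : A} (hs : s ∈ I) (hs1 : cε k A s = 1) :
    I.map ((Algebra.ofId k A).comp (cε k A)) = ⊤ := by
  rw [Ideal.eq_top_iff_one]
  have := Ideal.mem_map_of_mem ((Algebra.ofId k A).comp (cε k A)) hs
  simpa [hs1] using this

/-- A normalised ratio: it restricts to `s₀` on both axes. -/
theorem exists_normalized {I I' : Ideal A} {d : A} (hd : d ≠ 0) (hII : I * I' = Ideal.span {d})
    {s₀ : A} (hs : s₀ ∈ I) (hs1 : cε k A s₀ = 1) {a b : A ⊗[k] A} (ha : a ≠ 0) (hb : b ≠ 0)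
    (hab : Ideal.span {a} * I.map (Δ k A) = Ideal.span {b} * J₂ k A I) :
    ∃ a' : A ⊗[k] A, a' ≠ 0 ∧ e₁ k A a' = s₀ ∧ e₂ k A a' = s₀ ∧
      Ideal.span {a'} * I.map (Δ k A) = Ideal.span {Δ k A s₀} * J₂ k A I := by
  haveI : IsDomain (A ⊗[k] A) := Groth.VarietyBC.isDomain_tensor
  have hs0 : s₀ ≠ 0 := by rintro rfl; simp at hs1
  obtain ⟨t, ht, hbt⟩ : ∃ t ∈ J₂ k A I, b * t = a * Δ k A s₀ := by
    have : a * Δ k A s₀ ∈ Ideal.span {a} * I.map (Δ k A) :=
      Ideal.mul_mem_mul (Ideal.mem_span_singleton_self a) (Ideal.mem_map_of_mem _ hs)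
    rw [hab, Ideal.mem_span_singleton_mul] at this
    exact this
  have hΔ0 : Δ k A s₀ ≠ 0 := fun h => hs0 (comul_injective (h.trans (map_zero _).symm))
  have hkey : Ideal.span {t} * I.map (Δ k A) = Ideal.span {Δ k A s₀} * J₂ k A I := by
    refine (Ideal.span_singleton_mul_right_inj hb).1 ?_
    rw [← mul_assoc, ← mul_assoc, Ideal.span_singleton_mul_span_singleton, hbt,
      ← Ideal.span_singleton_mul_span_singleton, mul_comm (Ideal.span {a}), mul_assoc, hab]
    ring
  have hax : ∀ (e : A ⊗[k] A →ₐ[k] A), (∀ x, e (Δ k A x) = x) →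
      (I.map (e.comp (iL k A)) * I.map (e.comp (iR k A)) = I) →
      ∃ v : Aˣ, e t = v * s₀ := by
    intro e he hJ
    have h1 := congrArg (Ideal.map e) hkey
    rw [Ideal.map_mul, Ideal.map_mul, Ideal.map_span, Ideal.map_span, Set.image_singleton,
      Set.image_singleton, he, Ideal.map_mapₐ, Ideal.map_mul, Ideal.map_mapₐ, Ideal.map_mapₐ, hJ,
      show e.comp (Δ k A) = AlgHom.id k A from AlgHom.ext he,
      show I.map (AlgHom.id k A) = I from Ideal.map_id I] at h1
    have h2 := congrArg (· * I') h1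
    simp only [mul_assoc, hII, Ideal.span_singleton_mul_span_singleton,
      Ideal.span_singleton_eq_span_singleton] at h2
    obtain ⟨v, hv⟩ := h2
    refine ⟨v⁻¹, ?_⟩
    have h3 : e t * v = s₀ := mul_left_cancel₀ hd (by rw [← mul_assoc, mul_comm d, hv, mul_comm])
    rw [← h3, mul_comm (e t), ← mul_assoc, Units.inv_mul, one_mul]
  obtain ⟨v₁, hv₁⟩ := hax (e₁ k A) (e₁_comul k A) (by
    rw [e₁_iL, e₁_iR, map_eq_top hs hs1]; simp)
  obtain ⟨v₂, hv₂⟩ := hax (e₂ k A) (e₂_comul k A) (by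
    rw [e₂_iR, e₂_iL, map_eq_top hs hs1]; simp)
  have hc : cε k A (v₁ : A) = cε k A (v₂ : A) := by
    have := counit_e₁ k A t
    rwa [hv₁, hv₂, map_mul, map_mul, hs1, mul_one, mul_one] at this
  have hc0 : IsUnit (cε k A (v₁ : A)) := v₁.isUnit.map (cε k A)
  obtain ⟨c, hcc⟩ : ∃ c : kˣ, (c : k) = cε k A (v₁ : A) := ⟨hc0.unit, rfl⟩
  let n₁ : A := (↑v₁⁻¹ : A) * algebraMap k A c
  let n₂ : A := (↑v₂⁻¹ : A)
  have hi : ∀ v : Aˣ, cε k A (↑v⁻¹ : A) * cε k A (v : A) = 1 := fun v => by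
    rw [← map_mul, Units.inv_mul, map_one]
  have hn₁ : cε k A n₁ = 1 := by
    simp only [n₁, map_mul, AlgHom.commutes, Algebra.algebraMap_self, RingHom.id_apply, hcc, hi]
  have hn₂ : (c : k) * cε k A n₂ = 1 := by rw [hcc, hc, mul_comm, hi]
  have hu : IsUnit (iL k A n₁ * iR k A n₂) :=
    (((v₁⁻¹).isUnit.mul (c.isUnit.map (algebraMap k A))).map _).mul ((v₂⁻¹).isUnit.map _)
  refine ⟨iL k A n₁ * iR k A n₂ * t, mul_ne_zero hu.ne_zero ?_, ?_, ?_, ?_⟩
  · rintro rfl
    rw [mul_zero] at hbt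
    exact mul_ne_zero ha hΔ0 hbt.symm
  · rw [map_mul, map_mul, hv₁, ← AlgHom.comp_apply, ← AlgHom.comp_apply, e₁_iL, e₁_iR,
      AlgHom.id_apply, AlgHom.comp_apply, Algebra.ofId_apply]
    calc n₁ * algebraMap k A (cε k A n₂) * (v₁ * s₀)
        = (↑v₁⁻¹ * (v₁ : A)) * algebraMap k A ((c : k) * cε k A n₂) * s₀ := by
          simp only [n₁, map_mul]; ring
      _ = s₀ := by rw [Units.inv_mul, hn₂, map_one, one_mul, one_mul]
  · rw [map_mul, map_mul, hv₂, ← AlgHom.comp_apply, ← AlgHom.comp_apply, e₂_iL, e₂_iR,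
      AlgHom.id_apply, AlgHom.comp_apply, Algebra.ofId_apply, hn₁, map_one, one_mul, ← mul_assoc,
      Units.inv_mul, one_mul]
  · rw [← Ideal.span_singleton_mul_span_singleton, Ideal.span_singleton_eq_top.2 hu, Ideal.top_mul,
      hkey]

/-- The cocycle identity of a normalised ratio. -/
theorem cocycle {I I' : Ideal A} {d : A} (hd : d ≠ 0) (hII : I * I' = Ideal.span {d})
    {s₀ : A} (hs0 : s₀ ≠ 0) {a : A ⊗[k] A} (ha : a ≠ 0) (ha₁ : e₁ k A a = s₀) (ha₂ : e₂ k A a = s₀)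
    (hab : Ideal.span {a} * I.map (Δ k A) = Ideal.span {Δ k A s₀} * J₂ k A I) :
    (p₂₃ k A a * d₂ k A a) * (p₁₂ k A (Δ k A s₀) * d₁ k A (Δ k A s₀)) =
      (p₁₂ k A a * d₁ k A a) * (p₂₃ k A (Δ k A s₀) * d₂ k A (Δ k A s₀)) := by
  haveI : IsDomain (A ⊗[k] A) := Groth.VarietyBC.isDomain_tensor
  haveI : IsDomain (A ⊗[k] (A ⊗[k] A)) := Groth.VarietyBC.isDomain_tensor
  set b := Δ k A s₀ with hb
  have hb0 : b ≠ 0 := fun h => hs0 (comul_injective (h.trans (map_zero _).symm))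
  let Δ₃ := (d₁ k A).comp (Δ k A)
  let q₁ := (p₁₂ k A).comp (iL k A)
  let q₂ := (p₁₂ k A).comp (iR k A)
  let q₃ := (p₂₃ k A).comp (iR k A)
  have hd₁L : (d₁ k A).comp (iL k A) = (p₁₂ k A).comp (Δ k A) := AlgHom.ext fun x => by
    rw [AlgHom.comp_apply, AlgHom.comp_apply, Algebra.TensorProduct.includeLeft_apply, d₁_tmul]
    simp [← Algebra.TensorProduct.one_def]
  have hd₁R : (d₁ k A).comp (iR k A) = q₃ := AlgHom.ext fun x => by
    rw [AlgHom.comp_apply, Algebra.TensorProduct.includeRight_apply, d₁_tmul]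
    simp [q₃, map_one]
  have hd₂L : (d₂ k A).comp (iL k A) = q₁ := AlgHom.ext fun x => by
    simp [q₁, p₁₂_tmul, Algebra.TensorProduct.one_def]
  have hd₂R : (d₂ k A).comp (iR k A) = (p₂₃ k A).comp (Δ k A) := AlgHom.ext fun x => by simp
  have h23L : (p₂₃ k A).comp (iL k A) = q₂ := AlgHom.ext fun x => by simp [q₂, p₁₂_tmul]
  have hΔ₃ : (d₂ k A).comp (Δ k A) = Δ₃ := AlgHom.ext fun x => (coassoc k A x).symm
  have push : ∀ e : A ⊗[k] A →ₐ[k] A ⊗[k] (A ⊗[k] A),
      Ideal.span {e a} * I.map (e.comp (Δ k A)) =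
        Ideal.span {e b} * (I.map (e.comp (iL k A)) * I.map (e.comp (iR k A))) := by
    intro e
    have := congrArg (Ideal.map e) hab
    rwa [Ideal.map_mul, Ideal.map_mul, Ideal.map_span, Ideal.map_span, Set.image_singleton,
      Set.image_singleton, Ideal.map_mapₐ, Ideal.map_mul, Ideal.map_mapₐ, Ideal.map_mapₐ] at this
  have h1 : Ideal.span {d₁ k A a} * I.map Δ₃ =
      Ideal.span {d₁ k A b} * (I.map ((p₁₂ k A).comp (Δ k A)) * I.map q₃) := by
    have := push (d₁ k A)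
    rwa [hd₁L, hd₁R] at this
  have h2 : Ideal.span {d₂ k A a} * I.map Δ₃ =
      Ideal.span {d₂ k A b} * (I.map q₁ * I.map ((p₂₃ k A).comp (Δ k A))) := by
    have := push (d₂ k A)
    rwa [hd₂L, hd₂R, hΔ₃] at this
  have h12 := push (p₁₂ k A)
  have h23 := push (p₂₃ k A)
  rw [h23L] at h23
  set J := I.map q₁ * I.map q₂ * I.map q₃ with hJ
  have hP₁ : Ideal.span {p₁₂ k A a * d₁ k A a} * I.map Δ₃ = Ideal.span {p₁₂ k A b * d₁ k A b} * J := by
    rw [← Ideal.span_singleton_mul_span_singleton, ← Ideal.span_singleton_mul_span_singleton,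
      mul_assoc, h1]
    calc _ = Ideal.span {d₁ k A b} *
          ((Ideal.span {p₁₂ k A a} * I.map ((p₁₂ k A).comp (Δ k A))) * I.map q₃) := by ring
      _ = _ := by rw [h12]; ring
  have hP₂ : Ideal.span {p₂₃ k A a * d₂ k A a} * I.map Δ₃ = Ideal.span {p₂₃ k A b * d₂ k A b} * J := by
    rw [← Ideal.span_singleton_mul_span_singleton, ← Ideal.span_singleton_mul_span_singleton,
      mul_assoc, h2]
    calc _ = Ideal.span {d₂ k A b} *
          (I.map q₁ * (Ideal.span {p₂₃ k A a} * I.map ((p₂₃ k A).comp (Δ k A)))) := by ring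
      _ = _ := by rw [h23]; ring
  have hEq : Ideal.span {(p₂₃ k A a * d₂ k A a) * (p₁₂ k A b * d₁ k A b)} * J =
      Ideal.span {(p₁₂ k A a * d₁ k A a) * (p₂₃ k A b * d₂ k A b)} * J := by
    calc _ = Ideal.span {p₂₃ k A a * d₂ k A a} * (Ideal.span {p₁₂ k A b * d₁ k A b} * J) := by
          rw [← mul_assoc (Ideal.span _) (Ideal.span _) J, Ideal.span_singleton_mul_span_singleton]
      _ = Ideal.span {p₁₂ k A a * d₁ k A a} * (Ideal.span {p₂₃ k A b * d₂ k A b} * J) := by
          rw [← hP₁, ← hP₂]; ring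
      _ = _ := by rw [← mul_assoc (Ideal.span _) (Ideal.span _) J, Ideal.span_singleton_mul_span_singleton]
  have hJJ : J * (I'.map q₁ * I'.map q₂ * I'.map q₃) = Ideal.span {q₁ d * q₂ d * q₃ d} := by
    have hq : ∀ q : A →ₐ[k] A ⊗[k] (A ⊗[k] A), I.map q * I'.map q = Ideal.span {q d} := fun q => by
      rw [← Ideal.map_mul, hII, Ideal.map_span, Set.image_singleton]
    rw [← Ideal.span_singleton_mul_span_singleton, ← Ideal.span_singleton_mul_span_singleton,
      ← hq, ← hq, ← hq, hJ]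
    ring
  have hinj : ∀ {q : A →ₐ[k] A ⊗[k] (A ⊗[k] A)} (e : A ⊗[k] (A ⊗[k] A) →ₐ[k] A),
      (∀ x, e (q x) = x) → q d ≠ 0 := by
    intro q e he h
    exact hd (by rw [← he d, h, map_zero])
  have hd3 : q₁ d * q₂ d * q₃ d ≠ 0 := by
    refine mul_ne_zero (mul_ne_zero (hinj ((e₁ k A).comp (m₂ k A)) fun x => ?_)
      (hinj ((e₁ k A).comp (m₁ k A)) fun x => ?_)) (hinj ((e₂ k A).comp (m₁ k A)) fun x => ?_)
    · simp [q₁, p₁₂_tmul, m₂]
    · simp [q₂, p₁₂_tmul, m₁]
    · simp [q₃, m₁]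
  obtain ⟨u, hu⟩ : Associated ((p₁₂ k A a * d₁ k A a) * (p₂₃ k A b * d₂ k A b))
      ((p₂₃ k A a * d₂ k A a) * (p₁₂ k A b * d₁ k A b)) := by
    have := congrArg (· * (I'.map q₁ * I'.map q₂ * I'.map q₃)) hEq
    simp only [mul_assoc _ J, hJJ, Ideal.span_singleton_mul_span_singleton,
      Ideal.span_singleton_eq_span_singleton] at this
    exact (this.of_mul_right (Associated.refl _) hd3).symm
  haveI : Algebra.FiniteType k (A ⊗[k] A) :=
    Algebra.FiniteType.trans (S := A) inferInstance inferInstance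
  obtain ⟨g, h, hgh⟩ := Groth.AlgGrp2.unit_tensor_eq_tmul k A (A ⊗[k] A) u
  have hsL : iL k A s₀ ≠ 0 := fun h => hs0 (by simpa using congrArg (e₁ k A) h)
  have hsR : iR k A s₀ ≠ 0 := fun h => hs0 (by simpa using congrArg (e₂ k A) h)
  have hm₁ : m₁ k A (u : A ⊗[k] (A ⊗[k] A)) = 1 := by
    have hX : m₁ k A ((p₁₂ k A a * d₁ k A a) * (p₂₃ k A b * d₂ k A b)) ≠ 0 := by
      simp only [map_mul, m₁_d₁, m₁_d₂, m₁_p₁₂, m₁_p₂₃, ha₂, hb, e₂_comul]
      rw [hb] at hb0
      exact mul_ne_zero (mul_ne_zero hsL ha) (mul_ne_zero hb0 hb0)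
    refine mul_left_cancel₀ hX ?_
    rw [← map_mul, hu, mul_one]
    simp only [map_mul, m₁_d₁, m₁_d₂, m₁_p₁₂, m₁_p₂₃, ha₂, hb, e₂_comul]
    ring
  have hm₂ : m₂ k A (u : A ⊗[k] (A ⊗[k] A)) = 1 := by
    have hX : m₂ k A ((p₁₂ k A a * d₁ k A a) * (p₂₃ k A b * d₂ k A b)) ≠ 0 := by
      simp only [map_mul, m₂_d₁, m₂_d₂, m₂_p₁₂, m₂_p₂₃, ha₁, hb, e₂_comul]
      rw [hb] at hb0
      exact mul_ne_zero (mul_ne_zero hsL ha) (mul_ne_zero hsR hb0)
    refine mul_left_cancel₀ hX ?_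
    rw [← map_mul, hu, mul_one]
    simp only [map_mul, m₂_d₁, m₂_d₂, m₂_p₁₂, m₂_p₂₃, ha₁, ha₂, hb, e₁_comul, e₂_comul]
    ring
  have hu1 : (u : A ⊗[k] (A ⊗[k] A)) = 1 := by
    have h1' : cε k A (g : A) • (h : A ⊗[k] A) = 1 := by
      rw [← hm₁, hgh]; simp [m₁]
    have hg0 : cε k A (g : A) ≠ 0 := (g.isUnit.map (cε k A)).ne_zero
    have hh : (h : A ⊗[k] A) = (cε k A (g : A))⁻¹ • 1 := by
      rw [← h1', smul_smul, inv_mul_cancel₀ hg0, one_smul]
    have hu' : (u : A ⊗[k] (A ⊗[k] A)) = ((cε k A (g : A))⁻¹ • (g : A)) ⊗ₜ[k] 1 := by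
      rw [hgh, hh, TensorProduct.smul_tmul]
    have h2' := hm₂
    rw [hu'] at h2'
    simp only [m₂, Algebra.TensorProduct.map_tmul, AlgHom.id_apply, map_one] at h2'
    have h3 := congrArg (e₁ k A) h2'
    simp only [e₁_tmul, map_one, one_smul] at h3
    rw [hu', h3]; rfl
  rw [← hu, hu1, mul_one]

/-- A power of `I` is principal. -/
theorem exists_pow_eq_span {I I' : Ideal A} {d : A} (hd : d ≠ 0) (hII : I * I' = Ideal.span {d})
    {s₀ : A} (hs : s₀ ∈ I) (hs1 : cε k A s₀ = 1) {a b : A ⊗[k] A} (ha : a ≠ 0) (hb : b ≠ 0)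
    (hab : Ideal.span {a} * I.map (Δ k A) = Ideal.span {b} * J₂ k A I) :
    ∃ (n : ℕ) (D : A), 0 < n ∧ I ^ n = Ideal.span {D} := by
  classical
  haveI : IsDomain (A ⊗[k] A) := Groth.VarietyBC.isDomain_tensor
  haveI : IsDomain (A ⊗[k] (A ⊗[k] A)) := Groth.VarietyBC.isDomain_tensor
  have hs0 : s₀ ≠ 0 := by rintro rfl; simp at hs1
  obtain ⟨a, ha, ha₁, ha₂, hab⟩ := exists_normalized hd hII hs hs1 ha hb hab
  clear! b
  have hcoc := cocycle hd hII hs0 ha ha₁ ha₂ hab
  set b := Δ k A s₀ with hbdef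
  have hb0 : b ≠ 0 := fun h => hs0 (comul_injective (h.trans (map_zero _).symm))
  have hW : ∀ s : I, ∃ w ∈ J₂ k A I, b * w = a * Δ k A s := by
    intro s
    have : a * Δ k A s ∈ Ideal.span {a} * I.map (Δ k A) :=
      Ideal.mul_mem_mul (Ideal.mem_span_singleton_self a) (Ideal.mem_map_of_mem _ s.2)
    rwa [hab, Ideal.mem_span_singleton_mul] at this
  choose Wf hWJ hWb using hW
  -- the coaction
  let Is : Submodule k A := I.restrictScalars k
  let W : Is →ₗ[k] A ⊗[k] A :=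
    { toFun := fun s => Wf ⟨s.1, s.2⟩
      map_add' := fun s t => mul_left_cancel₀ hb0 (by
        rw [mul_add, hWb, hWb, hWb, ← mul_add, ← map_add]; rfl)
      map_smul' := fun c s => mul_left_cancel₀ hb0 (by
        rw [RingHom.id_apply, mul_smul_comm, hWb, hWb, ← mul_smul_comm, ← map_smul]; rfl) }
  have hWb' : ∀ s : Is, b * W s = a * Δ k A s := fun s => hWb _
  have hWJ' : ∀ s : Is, W s ∈ J₂ k A I := fun s => hWJ _
  have hWe₂ : ∀ s : Is, e₂ k A (W s) = s := fun s => by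
    have := congrArg (e₂ k A) (hWb' s)
    rw [map_mul, map_mul, e₂_comul, e₂_comul, ha₂] at this
    exact mul_left_cancel₀ hs0 this
  -- coassociativity
  have hco : ∀ (s : Is) (n : ℕ) (p q : Fin n → Is), W s = ∑ i, (p i : A) ⊗ₜ[k] (q i : A) →
      Algebra.TensorProduct.assoc k k k A A A (∑ i, W (p i) ⊗ₜ[k] (q i : A)) =
        ∑ i, (p i : A) ⊗ₜ[k] W (q i) := by
    intro s n p q hw
    have hR₁ : p₁₂ k A b * d₁ k A b ≠ 0 := by
      have h1 : m₁ k A (p₁₂ k A b * d₁ k A b) ≠ 0 := by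
        rw [map_mul, m₁_p₁₂, m₁_d₁, hbdef, e₂_comul]
        exact mul_ne_zero (fun h => hs0 (by simpa using congrArg (e₁ k A) h)) hb0
      exact fun h => h1 (by rw [h, map_zero])
    have hR₂ : p₂₃ k A b * d₂ k A b ≠ 0 := by
      have h1 : m₁ k A (p₂₃ k A b * d₂ k A b) ≠ 0 := by
        rw [map_mul, m₁_p₂₃, m₁_d₂, hbdef, e₂_comul]
        exact mul_ne_zero hb0 hb0
      exact fun h => h1 (by rw [h, map_zero])
    have hl : p₁₂ k A b * d₁ k A b *
        Algebra.TensorProduct.assoc k k k A A A (∑ i, W (p i) ⊗ₜ[k] (q i : A)) =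
        p₁₂ k A a * d₁ k A a * d₁ k A (Δ k A s) := by
      calc _ = d₁ k A b * ∑ i, p₁₂ k A (b * W (p i)) * p₂₃ k A (iR k A (q i)) := by
            simp only [map_sum, assoc_tmul_eq, map_mul, Finset.mul_sum]
            exact Finset.sum_congr rfl fun i _ => by ring
        _ = d₁ k A b * (p₁₂ k A a * d₁ k A (W s)) := by
            rw [hw, map_sum, Finset.mul_sum (a := p₁₂ k A a)]
            congr 1
            refine Finset.sum_congr rfl fun i _ => ?_
            rw [hWb', d₁_tmul, map_mul]; ring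
        _ = p₁₂ k A a * d₁ k A (b * W s) := by rw [map_mul]; ring
        _ = _ := by rw [hWb', map_mul]; ring
    have hr : p₂₃ k A b * d₂ k A b * ∑ i, (p i : A) ⊗ₜ[k] W (q i) =
        p₂₃ k A a * d₂ k A a * d₂ k A (Δ k A s) := by
      calc _ = d₂ k A b * ∑ i, p₂₃ k A b * ((p i : A) ⊗ₜ[k] W (q i)) := by
            simp only [Finset.mul_sum]
            exact Finset.sum_congr rfl fun i _ => by ring
        _ = d₂ k A b * (p₂₃ k A a * d₂ k A (W s)) := by
            rw [hw, map_sum, Finset.mul_sum (a := p₂₃ k A a)]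
            congr 1
            refine Finset.sum_congr rfl fun i _ => ?_
            rw [p₂₃_apply, p₂₃_apply, d₂_tmul, Algebra.TensorProduct.tmul_mul_tmul,
              Algebra.TensorProduct.tmul_mul_tmul, hWb']
        _ = p₂₃ k A a * d₂ k A (b * W s) := by rw [map_mul]; ring
        _ = _ := by rw [hWb', map_mul]; ring
    refine mul_left_cancel₀ (mul_ne_zero hR₁ hR₂) ?_
    calc p₁₂ k A b * d₁ k A b * (p₂₃ k A b * d₂ k A b) * _
        = p₂₃ k A b * d₂ k A b * (p₁₂ k A a * d₁ k A a * d₁ k A (Δ k A s)) := by rw [← hl]; ring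
      _ = p₁₂ k A b * d₁ k A b * (p₂₃ k A a * d₂ k A a * d₂ k A (Δ k A s)) := by
          rw [coassoc]
          calc _ = p₁₂ k A a * d₁ k A a * (p₂₃ k A b * d₂ k A b) * d₂ k A (Δ k A s) := by ring
            _ = _ := by rw [← hcoc]; ring
      _ = _ := by rw [← hr]; ring
  -- the finite dimensional subcomodule
  obtain ⟨N, p, q, hp, hq, hapq⟩ := exists_sum_of_mem_J₂ k A (z := a) (I := I) (by
    have h := hWb ⟨s₀, hs⟩
    rw [mul_comm a] at h
    rw [← mul_left_cancel₀ hb0 h]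
    exact hWJ _)
  have hWs : W ⟨s₀, hs⟩ = a := mul_left_cancel₀ hb0 ((hWb' ⟨s₀, hs⟩).trans (mul_comm _ _))
  let P : (A →ₗ[k] k) →ₗ[k] Is :=
    { toFun := fun φ => ∑ i, φ (p i) • (⟨q i, hq i⟩ : Is)
      map_add' := fun φ ψ => by simp [add_smul, Finset.sum_add_distrib]
      map_smul' := fun c φ => by simp [Finset.smul_sum, smul_smul] }
  let V : Submodule k A := LinearMap.range (Is.subtype ∘ₗ P)
  have hPA : ∀ φ, ((P φ : Is) : A) = ∑ i, φ (p i) • q i := fun φ => by
    simp only [P, LinearMap.coe_mk, AddHom.coe_mk, Submodule.coe_sum, Submodule.coe_smul]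
  haveI : Module.Finite k V := by
    have hle : V ≤ Submodule.span k (Set.range q) := by
      rintro _ ⟨φ, rfl⟩
      show ((P φ : Is) : A) ∈ _
      rw [hPA]
      exact Submodule.sum_mem _ fun i _ => Submodule.smul_mem _ _ (Submodule.subset_span (Set.mem_range_self i))
    haveI : FiniteDimensional k (Submodule.span k (Set.range q)) :=
      FiniteDimensional.span_of_finite k (Set.finite_range q)
    exact Submodule.finiteDimensional_of_le hle
  let n := Module.finrank k V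
  let v := Module.finBasis k V
  let vA : Fin n → A := fun j => (v j : A)
  have hVI : ∀ j, vA j ∈ Is := fun j => by
    obtain ⟨φ, hφ⟩ := (v j).2
    exact (show (Is.subtype ∘ₗ P) φ = vA j from hφ) ▸ (P φ).2
  let vI : Fin n → Is := fun j => ⟨vA j, hVI j⟩
  let ι : V →ₗ[k] A := V.subtype
  have hθ : ∀ i, ∃ θ : A →ₗ[k] k, θ ∘ₗ ι = v.coord i := fun i => by
    obtain ⟨g, hg⟩ := LinearMap.exists_leftInverse_of_injective V.subtype
      (LinearMap.ker_eq_bot.2 Subtype.val_injective)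
    exact ⟨(v.coord i) ∘ₗ g, by rw [LinearMap.comp_assoc, hg, LinearMap.comp_id]⟩
  choose θ hθ using hθ
  have hθv : ∀ i j, θ i (vA j) = if j = i then 1 else 0 := fun i j => by
    show (θ i ∘ₗ ι) (v j) = _
    rw [hθ i]; simp [Module.Basis.coord_apply, Finsupp.single_apply]
  have hrec : ∀ x : V, ι x = ∑ i, θ i (ι x) • vA i := fun x => by
    conv_lhs => rw [← v.sum_repr x, map_sum]
    refine Finset.sum_congr rfl fun i _ => ?_
    rw [map_smul, show θ i (ι x) = (θ i ∘ₗ ι) x from rfl, hθ i]; rfl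
  -- left contractions of `W v` lie in `V`
  have hleft : ∀ (φ : A →ₗ[k] k) (j : Fin n), ∃ x : V,
      contract φ A (TensorProduct.comm k A A (W (vI j))) = ι x := by
    intro φ j
    obtain ⟨ψ, hψ⟩ := (v j).2
    have hψ' : P ψ = vI j := Subtype.ext hψ
    let G : A ⊗[k] (A ⊗[k] A) →ₗ[k] A := (TensorProduct.lid k A).toLinearMap ∘ₗ
      TensorProduct.map ψ ((contract φ A) ∘ₗ (TensorProduct.comm k A A).toLinearMap)
    let τ : A ⊗[k] A →ₗ[k] k := (TensorProduct.lid k k).toLinearMap ∘ₗ TensorProduct.map ψ φ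
    obtain ⟨g, hg⟩ := LinearMap.exists_leftInverse_of_injective Is.subtype
      (LinearMap.ker_eq_bot.2 Subtype.val_injective)
    let θ' : A →ₗ[k] k := τ ∘ₗ W ∘ₗ g
    refine ⟨⟨(Is.subtype ∘ₗ P) θ', θ', rfl⟩, ?_⟩
    have h1 := congrArg G (hco ⟨s₀, hs⟩ N (fun i => ⟨p i, hp i⟩) (fun i => ⟨q i, hq i⟩)
      (hWs.trans hapq))
    have hG : ∀ (z : A ⊗[k] A) (y : A),
        G (Algebra.TensorProduct.assoc k k k A A A (z ⊗ₜ y)) = τ z • y := by
      intro z y
      induction z using TensorProduct.induction_on with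
      | zero => simp
      | tmul x w => simp [G, τ, contract, smul_smul, mul_comm]
      | add z z' hz hz' => simp only [TensorProduct.add_tmul, map_add, hz, hz', add_smul]
    rw [map_sum, map_sum, map_sum] at h1
    simp only [hG] at h1
    rw [← hψ']
    refine Eq.trans ?_ (h1.symm.trans ?_)
    · simp only [P, LinearMap.coe_mk, AddHom.coe_mk, map_sum, map_smul, G, LinearMap.coe_comp,
        Function.comp_apply, TensorProduct.map_tmul, LinearEquiv.coe_coe, TensorProduct.lid_tmul]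
    · show _ = ((P θ' : Is) : A)
      simp only [P, LinearMap.coe_mk, AddHom.coe_mk, Submodule.coe_sum, Submodule.coe_smul]
      refine Finset.sum_congr rfl fun i _ => ?_
      have : g (p i) = (⟨p i, hp i⟩ : Is) := congrArg (fun f : Is →ₗ[k] Is => f ⟨p i, hp i⟩) hg
      simp [θ', this]
  -- the matrix
  let M : Matrix (Fin n) (Fin n) A := fun i j => contract (θ i) A (W (vI j))
  have hcontract : ∀ (f : A →ₗ[k] k) (x y : A), contract f A (x ⊗ₜ[k] y) = f y • x := by
    intro f x y; simp [contract]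
  have hMI : ∀ i j, M i j ∈ I := fun i j => by
    obtain ⟨r, x, y, hx, -, hxy⟩ := exists_sum_of_mem_J₂ k A (hWJ' (vI j))
    show contract (θ i) A (W (vI j)) ∈ I
    rw [hxy, map_sum]
    exact I.sum_mem fun l _ => by rw [hcontract]; exact Submodule.smul_of_tower_mem I _ (hx l)
  have hMW : ∀ j, W (vI j) = ∑ i, M i j ⊗ₜ[k] vA i := by
    intro j
    rw [← sub_eq_zero]
    refine (TensorProduct.comm k A A).injective ?_
    rw [map_zero]
    refine Groth.AlgGrp2.eq_zero_of_contract _ fun φ => ?_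
    have key : ∀ z : A ⊗[k] A, ∀ i, φ (contract (θ i) A z) =
        θ i (contract φ A (TensorProduct.comm k A A z)) := by
      intro z i
      induction z using TensorProduct.induction_on with
      | zero => simp
      | tmul x y => simp [hcontract, mul_comm]
      | add z z' hz hz' => simp only [map_add, hz, hz']
    simp only [map_sub, map_sum, TensorProduct.comm_tmul, hcontract, sub_eq_zero, M, key]
    obtain ⟨x, hx⟩ := hleft φ j
    rw [hx]; exact hrec x
  have hMε : ∀ i j, cε k A (M i j) = if j = i then 1 else 0 := by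
    intro i j
    have h1 := congrArg (θ i) (hWe₂ (vI j))
    rw [hMW j] at h1
    simp only [map_sum, e₂_tmul, map_smul, hθv, smul_eq_mul, mul_ite, mul_one, mul_zero,
      Finset.sum_ite_eq', Finset.mem_univ, if_true] at h1
    rw [h1]; exact hθv i j
  have hMW₂ : ∀ l j, W ⟨M l j, hMI l j⟩ = ∑ i, M i j ⊗ₜ[k] M l i := by
    intro l j
    have h1 := hco (vI j) n (fun i => ⟨M i j, hMI i j⟩) (fun i => (vI i)) (hMW j)
    let G : (A ⊗[k] A) ⊗[k] A →ₗ[k] A ⊗[k] A := contract (θ l) (A ⊗[k] A)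
    have h2 := congrArg (fun z => G ((Algebra.TensorProduct.assoc k k k A A A).symm z)) h1
    simp only [AlgEquiv.symm_apply_apply, hMW] at h2
    have hG : ∀ (z : A ⊗[k] A) (y : A), G (z ⊗ₜ y) = θ l y • z := fun z y => by simp [G, contract]
    simp only [TensorProduct.tmul_sum, map_sum, Algebra.TensorProduct.assoc_symm_tmul, hG, vI, hθv,
      ite_smul, one_smul, zero_smul, Finset.sum_ite_eq', Finset.mem_univ, if_true] at h2
    exact h2
  have hdet : b ^ n * (iL k A M.det * iR k A M.det) = a ^ n * Δ k A M.det := by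
    have hm : a • M.map (Δ k A) = b • ((M.map (iR k A)) * (M.map (iL k A))) := by
      ext l j
      simp only [Matrix.smul_apply, Matrix.map_apply, Matrix.mul_apply, smul_eq_mul]
      rw [← hWb' ⟨M l j, hMI l j⟩, hMW₂]
      congr 1
      refine Finset.sum_congr rfl fun i _ => ?_
      simp [Algebra.TensorProduct.tmul_mul_tmul]
    have := congrArg Matrix.det hm
    rw [Matrix.det_smul, Matrix.det_smul, Matrix.det_mul, Fintype.card_fin] at this
    simp only [AlgHom.map_det, AlgHom.mapMatrix_apply]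
    rw [this]; ring
  have hDI : M.det ∈ I ^ n := by
    rw [Matrix.det_apply]
    refine Ideal.sum_mem _ fun σ _ => ?_
    rw [Units.smul_def]
    refine zsmul_mem ?_ _
    have := Ideal.prod_mem_prod (s := (Finset.univ : Finset (Fin n))) (I := fun _ => I)
      (x := fun i => M (σ i) i) fun i _ => hMI _ _
    rwa [Finset.prod_const, Finset.card_univ, Fintype.card_fin] at this
  have hεD : cε k A M.det = 1 := by
    rw [AlgHom.map_det]
    have : M.map (cε k A) = 1 := by
      ext i j; simp [hMε, Matrix.one_apply, eq_comm]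
    rw [AlgHom.mapMatrix_apply, this, Matrix.det_one]
  have hn : 0 < n := by
    refine Module.finrank_pos_iff.2 ?_
    refine ⟨⟨⟨(Is.subtype ∘ₗ P) (cε k A).toLinearMap, _, rfl⟩, 0, fun h => hs0 ?_⟩⟩
    have h1 : ((P (cε k A).toLinearMap : Is) : A) = 0 := congrArg (fun x : V => (x : A)) h
    rw [← ha₂, hapq, map_sum, ← h1]
    simp [P]
  refine ⟨n, M.det, hn, le_antisymm (fun x hx => ?_) ((Ideal.span_singleton_le_iff_mem _).2 hDI)⟩
  have hpow : Ideal.span {a ^ n} * (I ^ n).map (Δ k A) =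
      Ideal.span {b ^ n} * ((I ^ n).map (iL k A) * (I ^ n).map (iR k A)) := by
    rw [← Ideal.span_singleton_pow, ← Ideal.span_singleton_pow, Ideal.map_pow, Ideal.map_pow,
      Ideal.map_pow, ← mul_pow, ← mul_pow, ← mul_pow, hab]
  obtain ⟨t, -, ht⟩ : ∃ t ∈ (I ^ n).map (Δ k A), a ^ n * t = b ^ n * (iL k A x * iR k A M.det) := by
    have h := Ideal.mul_mem_mul (Ideal.mem_span_singleton_self (b ^ n))
      (Ideal.mul_mem_mul (Ideal.mem_map_of_mem (iL k A) hx) (Ideal.mem_map_of_mem (iR k A) hDI))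
    rwa [← hpow, Ideal.mem_span_singleton_mul] at h
  have key : iL k A x * Δ k A M.det = t * iL k A M.det :=
    mul_left_cancel₀ (pow_ne_zero n ha) (by
      calc a ^ n * (iL k A x * Δ k A M.det) = iL k A x * (a ^ n * Δ k A M.det) := by ring
        _ = (b ^ n * (iL k A x * iR k A M.det)) * iL k A M.det := by rw [← hdet]; ring
        _ = _ := by rw [← ht]; ring)
  let μS : A ⊗[k] A →ₐ[k] A :=
    Algebra.TensorProduct.lift (AlgHom.id k A) (HopfAlgebra.antipodeAlgHom k A) fun _ _ => Commute.all _ _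
  have hμ : ∀ y, μS (Δ k A y) = algebraMap k A (cε k A y) := by
    intro y
    have : ∀ z : A ⊗[k] A, μS z = LinearMap.mul' k A ((HopfAlgebra.antipode k).lTensor A z) := by
      intro z
      induction z using TensorProduct.induction_on with
      | zero => simp
      | tmul a c => simp [μS]
      | add a c h h' => simp only [map_add, h, h']
    rw [this]
    exact HopfAlgebra.mul_antipode_lTensor_comul_apply y
  have h := congrArg μS key
  rw [map_mul, map_mul, hμ, hεD, map_one, mul_one] at h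
  refine Ideal.mem_span_singleton'.2 ⟨μS t, ?_⟩
  have hL : ∀ y, μS (iL k A y) = y := fun y => by simp [μS]
  rw [hL, hL] at h
  exact h.symm

end

end Groth.AlgGrpRat.Torsion
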