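import Groth.Agent.AlgGrpRat.Nilpotent
import Groth.Agent.AlgGrpRat.Cell
import Groth.Agent.AlgGrp1.CartanField
import Groth.Agent.AlgGrp1.CentTorus
import Groth.Agent.AlgGrp1.NormalizerBorel
import Groth.Agent.AlgGrp1.BorelCover
import Groth.Agent.S3304
import Groth.Agent.S3006

/-!
# Connected linear algebraic groups are rational
-/

set_option autoImplicit false
set_option linter.style.haveILetI false
universe u

open CategoryTheory CategoryTheory.Limits MonoidalCategory CartesianMonoidalCategory MonObj GrpObj AlgebraicGeometry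
open TensorProduct WithConv
open scoped Groth.Agf
open Groth.Misc1.Dyn (post negI oneI)

noncomputable section

namespace Groth.AlgGrpRat

variable {k : Type u} [Field k] [IsAlgClosed k]

local notation "𝕊" => Spec (CommRingCat.of k)

/-- Contracted subgroups are rational. -/
theorem isRat_oneI {A : Type u} [CommRing A] [HopfAlgebra k A] [Algebra.FiniteType k A]
    (lam : A →ₐc[k] LaurentPolynomial k) [_root_.IsReduced (A ⧸ oneI lam)] :
    IsRat (CoactBr.sp k (A ⧸ oneI lam)) := by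
  haveI := Groth.Misc1.Dyn.isHopfIdeal_oneI lam
  have hU : Groth.URad.IsUnip (CoactBr.sp k (A ⧸ oneI lam)) :=
    ⟨A ⧸ oneI lam, inferInstance, inferInstance, inferInstance, Iso.refl _, inferInstanceAs (IsMonHom (𝟙 _)),
      Groth.Agent.S3304.result k A lam _ (Groth.Misc1.Dyn.represents_oneI lam)⟩
  have : LocallyOfFiniteType (CoactBr.sp k (A ⧸ oneI lam)).hom :=
    (HasRingHomProperty.Spec_iff (P := @LocallyOfFiniteType)).2 (RingHom.finiteType_algebraMap.2 inferInstance)
  have : IsReduced (CoactBr.sp k (A ⧸ oneI lam)).left :=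
    inferInstanceAs (IsReduced (Spec (CommRingCat.of (A ⧸ oneI lam))))
  haveI : GrpObj (Over.mk (CoactBr.sp k (A ⧸ oneI lam)).hom) := inferInstanceAs (GrpObj (CoactBr.sp k (A ⧸ oneI lam)))
  have : Smooth (CoactBr.sp k (A ⧸ oneI lam)).hom :=
    Groth.GrpschAbsch.smooth_of_perfectField_of_isReduced (CoactBr.sp k (A ⧸ oneI lam)).hom
  haveI := Groth.Misc1.Dyn.preconnectedSpace_of_idem
    (Groth.Misc1.Dyn.idem_limIsOne lam (oneI lam) (Groth.Misc1.Dyn.represents_oneI lam))
  have : ConnectedSpace (CoactBr.sp k (A ⧸ oneI lam)).left :=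
    ({ toNonempty := ⟨⟨RingHom.ker (Bialgebra.counitAlgHom k (A ⧸ oneI lam)), RingHom.ker_isPrime _⟩⟩ } :
      ConnectedSpace (PrimeSpectrum (A ⧸ oneI lam)))
  exact isRat_unipotent hU

omit [IsAlgClosed k] in
/-- The centralizer of a torus through a Hopf algebra. -/
theorem exists_centralizer_iso {G T C : Over 𝕊} [GrpObj G] [GrpObj T] [GrpObj C] {A : Type u} [CommRing A]
    [HopfAlgebra k A] (e : CoactBr.sp k A ≅ G) [IsMonHom e.hom] (iT : T ⟶ G) (c : C ⟶ G)
    (hc : Red.IsCentralizerOf iT c) {r : ℕ}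
    (eT : CoactBr.sp k (MonoidAlgebra k (Multiplicative (Fin r → ℤ))) ≅ T)
    (φ : A →ₐc[k] MonoidAlgebra k (Multiplicative (Fin r → ℤ)))
    (hφ : CoactBr.pt (φ : A →ₐ[k] MonoidAlgebra k (Multiplicative (Fin r → ℤ))) = eT.hom ≫ iT ≫ e.inv)
    (lam : A →ₐc[k] LaurentPolynomial k)
    (hlam : ∀ (R : Type u) [CommRing R] [Algebra k R] (g : A →ₐ[k] R),
      Dyn.conjOrbit k A lam R g = (IsScalarTower.toAlgHom k R (LaurentPolynomial R)).comp g ↔
        Groth.AlgGrp1.torOrbit φ R g = post (Groth.AlgGrp1.torCst R) (toConv g))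
    (Z : Ideal A) (hZ : Dyn.Represents k A Z (fun R _ _ g =>
      Dyn.conjOrbit k A lam R g = (IsScalarTower.toAlgHom k R (LaurentPolynomial R)).comp g)) :
    ∃ _ : CoactBr.sp k (A ⧸ Z) ≅ C, True := by
  let κ : A →ₐ[k] A ⧸ Z := Ideal.Quotient.mkₐ k Z
  let i : CoactBr.sp k (A ⧸ Z) ⟶ G := CoactBr.pt κ ≫ e.hom
  have hci : IsClosedImmersion (CoactBr.pt κ).left := by
    rw [CoactBr.pt_left]
    exact IsClosedImmersion.spec_of_surjective _ Ideal.Quotient.mk_surjective
  haveI : Mono (CoactBr.pt κ) := Over.mono_of_mono_left _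
  haveI : Mono i := inferInstanceAs (Mono (CoactBr.pt κ ≫ e.hom))
  obtain ⟨hcm, hcmono, hcp⟩ := hc
  have key : ∀ (R : Type u) [CommRing R] [Algebra k R] (g : A →ₐ[k] R),
      (∃ y : CoactBr.sp k R ⟶ C, y ≫ c = CoactBr.pt g ≫ e.hom) ↔ ∀ a ∈ Z, g a = 0 := by
    intro R _ _ g
    refine Iff.trans ?_ (((hlam R g).trans (Groth.AlgGrp1.commutes_iff_torOrbit φ g).symm).symm.trans (hZ R g).symm)
    rw [hcp]
    constructor
    · intro H W x h
      have h1 := H W x (h ≫ eT.hom)
      rw [← cancel_mono e.hom, MonObj.mul_comp, MonObj.mul_comp]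
      simp only [Category.assoc] at h1 ⊢
      rw [hφ]
      simpa [Category.assoc] using h1
    · intro H W x h
      have h1 := congrArg (· ≫ e.hom) (H W x (h ≫ eT.inv))
      simp only [MonObj.mul_comp, Category.assoc] at h1
      rw [hφ] at h1
      simpa [Category.assoc] using h1
  obtain ⟨u, hu⟩ := Groth.AlgGrp1.exists_factor_of_pts c i fun R t => by
    obtain ⟨f, hf⟩ := Groth.AlgGrp2.pt_surjective (R := k) (K := (R : Type u)) (B := A ⧸ Z) t
    refine ((key _ (f.comp κ)).2 fun a ha => ?_).imp fun y hy => ?_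
    · rw [AlgHom.comp_apply]
      exact (congrArg f (Ideal.Quotient.eq_zero_iff_mem.2 ha)).trans (map_zero _)
    · refine hy.trans ?_
      rw [CoactBr.pt_comp, hf]
      exact Category.assoc _ _ _
  obtain ⟨w, hw⟩ := Groth.AlgGrp1.exists_factor_of_pts i c fun R t => by
    obtain ⟨f, hf⟩ := Groth.AlgGrp2.pt_surjective (R := k) (K := (R : Type u)) (B := A) (t ≫ c ≫ e.inv)
    have h1 := (key _ f).1 ⟨t, by
      rw [hf]
      simp⟩
    refine ⟨CoactBr.pt (Ideal.Quotient.liftₐ Z f h1), ?_⟩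
    show CoactBr.pt _ ≫ CoactBr.pt κ ≫ e.hom = _
    rw [← Category.assoc, ← CoactBr.pt_comp, show (Ideal.Quotient.liftₐ Z f h1).comp κ = f from AlgHom.ext fun _ => rfl, hf]
    exact (Category.assoc _ _ _).trans (by rw [Category.assoc, Iso.inv_hom_id, Category.comp_id]; rfl)
  exact ⟨⟨u, w, (cancel_mono i).1 (by rw [Category.assoc, hw, hu, Category.id_comp]),
    (cancel_mono c).1 (by rw [Category.assoc, hu, hw, Category.id_comp])⟩, trivial⟩

/-- **Connected linear algebraic groups are rational.** -/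
theorem isRat_linear (G : Over 𝕊) [GrpObj G] [IsAffine G.left] [Smooth G.hom] [ConnectedSpace G.left] :
    IsRat G := by
  obtain ⟨A, _, _, _, e, he⟩ := Groth.AlgGrp1.exists_hopf_iso G
  haveI := he
  obtain ⟨B, _, iB, _, _, _, _, hB, -, -⟩ := Groth.AlgGrp1.exists_borel_proper (G := G)
  obtain ⟨T, _, t₀, hT⟩ := Groth.AlgGrp1.exists_maxTorus_of_borel hB
  have hTt := hT.2.2.1
  haveI := hT.1
  haveI := hT.2.1
  obtain ⟨r, eT, heT⟩ := Groth.AlgGrp1.exists_diag_iso_of_isTorus hTt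
  haveI := heT
  haveI := Groth.URad.isMonHom_inv e
  obtain ⟨φ, hφ⟩ := Groth.AlgGrp1.exists_bialgHom_of_isMonHom (eT.hom ≫ (t₀ ≫ iB) ≫ e.inv)
  obtain ⟨lam, hlam⟩ := Groth.AlgGrp1.exists_generic_cochar φ
  obtain ⟨lamNeg, hneg⟩ := Groth.Misc1.Dyn.exists_negParam lam
  let Z : Ideal A := negI lam ⊔ negI lamNeg
  have hZ := Groth.Misc1.Dyn.represents_sup lam lamNeg hneg _ _
    (Groth.Misc1.Dyn.represents_negI lam) (Groth.Misc1.Dyn.represents_negI lamNeg)
  -- the centralizer
  obtain ⟨⟨C, _, c, hc, -, -⟩, -⟩ := Groth.Agent.S3006.result _ G T (t₀ ≫ iB)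
    (Groth.AlgGrp1.isClosedImmersion_of_isTorus _ hTt) hTt
  obtain ⟨hCs, hCc, hCn, hCnil⟩ := Groth.AlgGrp1.isNilpotentGrp_centralizer_maxTorus hT hc
  haveI := hCs; haveI := hCc; haveI := hCn; haveI := hc.1
  have : IsAffine C.left := isAffine_of_isAffineHom c.left
  have hTcomm : ∀ (W : Over 𝕊) (a b : W ⟶ T), a * b = b * a := by
    intro W a b
    haveI := Groth.URad.isMonHom_inv eT
    rw [← cancel_mono eT.inv, MonObj.mul_comp, MonObj.mul_comp, Groth.Reductive2.UnipTriv.eq_tP_pt (a ≫ eT.inv),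
      Groth.Reductive2.UnipTriv.eq_tP_pt (b ≫ eT.inv), ← MonObj.comp_mul, ← MonObj.comp_mul, CoactBr.pt_mul_pt,
      CoactBr.pt_mul_pt]
    refine congrArg (fun f => _ ≫ CoactBr.pt f) (MonoidAlgebra.algHom_ext (fun m => ?_) (Subsingleton.elim _ _))
    simp [mul_comm]
  obtain ⟨t, ht⟩ := (hc.2.2 T (t₀ ≫ iB)).2 fun W x h => by
    rw [← MonObj.mul_comp x h (t₀ ≫ iB), ← MonObj.mul_comp h x (t₀ ≫ iB), hTcomm]
  obtain ⟨htm, π, hπm, hπ, habs⟩ := Groth.AlgGrp1.exists_retraction_of_isMaxTorus c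
    (Groth.AlgGrp1.isSolvableGrp_of_nilpotent hCnil) hT t ht
  haveI := htm; haveI := hπm
  have hC : IsRat C := isRat_of_absorbing hTt t π hπ habs
  obtain ⟨E, -⟩ := exists_centralizer_iso e (t₀ ≫ iB) c hc eT φ hφ lam hlam Z hZ
  have hZr : IsRat (CoactBr.sp k (A ⧸ Z)) := hC.of_iso E.symm
  -- the cell
  have hred : _root_.IsReduced A := by
    have : IsReduced G.left := Groth.AlgGrp1.isReduced_of_smooth G.hom
    have := isIso_left e.hom
    have h : IsReduced (CoactBr.sp k A).left := isReduced_of_isOpenImmersion e.hom.left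
    exact (affine_isReduced_iff (CommRingCat.of A)).1 h
  have hneg' : (lam : A →ₐ[k] LaurentPolynomial k) = Dyn.negParam k A lamNeg := by
    refine AlgHom.ext fun a => ?_
    have h := DFunLike.congr_fun hneg a
    show lam a = LaurentPolynomial.invert (lamNeg a)
    rw [show lamNeg a = LaurentPolynomial.invert (lam a) from h]
    exact (LaurentPolynomial.involutive_invert _).symm
  haveI := isReduced_oneI lam lamNeg hneg
  haveI := isReduced_oneI lamNeg lam hneg'
  obtain ⟨L⟩ := exists_levi_algEquiv lam Z hZ le_sup_left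
  obtain ⟨cm, hcm⟩ := exists_cell lam lamNeg hneg
  have := isIso_left e.hom
  have : IsOpenImmersion (cm ≫ e.hom).left := by rw [Over.comp_left]; infer_instance
  exact ((isRat_oneI lamNeg).sp_tensor ((hZr.sp_tensor (isRat_oneI lam)).sp_algEquiv L)).of_openImmersion (cm ≫ e.hom)

end Groth.AlgGrpRat
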