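import Groth.Agent.AlgGrpRat.Linear
import Groth.Agent.NeronArea.SmoothLocusNMP
import Groth.Agent.Abvar.PicCalc
import Groth.Agent.S16120
import Groth.Agent.S16121

/-!
# Invertible modules and actions of connected linear groups
-/

set_option autoImplicit false
set_option linter.style.haveILetI false
set_option linter.unusedSectionVars false
universe u

open CategoryTheory CategoryTheory.Limits MonoidalCategory CartesianMonoidalCategory MonObj GrpObj AlgebraicGeometry

noncomputable section

namespace Groth.AlgGrpRat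

open scoped Groth.Abvar.PicCalc

variable {k : Type u} [Field k]

theorem isNormalScheme_spec_field (k : Type u) [Field k] : Pi1.IsNormalScheme (Spec (CommRingCat.of k)) := by
  intro x
  haveI : Subsingleton (Spec (CommRingCat.of k)) := inferInstanceAs (Subsingleton (PrimeSpectrum k))
  rw [Subsingleton.elim x (genericPoint _)]
  exact ⟨inferInstanceAs (IsDomain (Spec (CommRingCat.of k)).functionField),
    inferInstanceAs (IsIntegrallyClosed (Spec (CommRingCat.of k)).functionField)⟩

variable [IsAlgClosed k]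

/-- A class pulled back along an action splits. -/
theorem exists_split (G X : Over (Spec (CommRingCat.of k))) [GrpObj G] [IsAffine G.left] [Smooth G.hom]
    [ConnectedSpace ↥G.left] [IsIntegral X.left] [IsSeparated X.hom] [LocallyOfFiniteType X.hom]
    [QuasiCompact X.hom] (hX : Pi1.IsNormalScheme X.left)
    [PicGrp.Law G.left] [PicGrp.Law X.left] [PicGrp.Law (G ⊗ X).left]
    (h₁ : PicGrp.PullMul (fst G X).left) (h₂ : PicGrp.PullMul (snd G X).left)
    (z : PicLoc.PicSet (G ⊗ X).left) :
    ∃ α β, PicGrp.pullHom (fst G X).left h₁ α * PicGrp.pullHom (snd G X).left h₂ β = z := by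
  have := Groth.AlgGrp1.irreducibleSpace_of_connected G
  have : IsReduced G.left := Groth.AlgGrp1.isReduced_of_smooth G.hom
  have : IsIntegral G.left := isIntegral_of_irreducibleSpace_of_isReduced _
  have := Groth.AlgGrp1.isSeparated_grpObj G
  have hG : Pi1.IsNormalScheme G.left :=
    Groth.NeronArea.isNormalScheme_of_smooth G.hom (isNormalScheme_spec_field k)
  obtain ⟨⟨α, β⟩, h⟩ := (Groth.Agent.S16120.result k G X hG hX (Groth.Agent.S16121.result k G) h₁ h₂).2 z
  exact ⟨α, β, h⟩

/-- The translations fix every class. -/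
theorem pull_translate (G X : Over (Spec (CommRingCat.of k))) [GrpObj G] [IsAffine G.left] [Smooth G.hom]
    [ConnectedSpace ↥G.left] [IsIntegral X.left] [IsSeparated X.hom] [LocallyOfFiniteType X.hom]
    [QuasiCompact X.hom] (hX : Pi1.IsNormalScheme X.left) (a : AlgGrp.Action G X)
    (g : 𝟙_ (Over (Spec (CommRingCat.of k))) ⟶ G) (c : PicLoc.PicSet X.left) :
    Groth.Abvar.PicCalc.pull (lift (toUnit X ≫ g) (𝟙 X) ≫ a.act).left c = c := by
  obtain ⟨α, β, h⟩ := exists_split G X hX (Groth.Abvar.PicCalc.pullMulCl _) (Groth.Abvar.PicCalc.pullMulCl _)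
    (Groth.Abvar.PicCalc.pull a.act.left c)
  have key : ∀ h' : 𝟙_ (Over (Spec (CommRingCat.of k))) ⟶ G,
      Groth.Abvar.PicCalc.pull (lift (toUnit X ≫ h') (𝟙 X) ≫ a.act).left c = β := by
    intro h'
    rw [Over.comp_left, Groth.Abvar.PicCalc.pull_comp, ← h, map_mul]
    show Groth.Abvar.PicCalc.pull _ (Groth.Abvar.PicCalc.pull (fst G X).left α) *
      Groth.Abvar.PicCalc.pull _ (Groth.Abvar.PicCalc.pull (snd G X).left β) = β
    rw [← Groth.Abvar.PicCalc.pull_comp, ← Groth.Abvar.PicCalc.pull_comp, ← Over.comp_left, ← Over.comp_left,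
      lift_fst, lift_snd, Over.id_left, Groth.Abvar.PicCalc.pull_id, Over.comp_left,
      Groth.Abvar.PicCalc.pull_comp]
    have : Subsingleton (𝟙_ (Over (Spec (CommRingCat.of k)))).left :=
      inferInstanceAs (Subsingleton (PrimeSpectrum k))
    rw [Groth.Abvar.PicCalc.eq_one_of_subsingleton (Groth.Abvar.PicCalc.pull h'.left α), map_one, _root_.one_mul]
  refine (key g).trans ((key η[G]).symm.trans ?_)
  rw [show lift (toUnit X ≫ η[G]) (𝟙 X) ≫ a.act = 𝟙 X by
    rw [← lift_whiskerRight, Category.assoc, a.one_act]; simp, Over.id_left, Groth.Abvar.PicCalc.pull_id]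

end Groth.AlgGrpRat
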