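/- Invertible ideals and Picard classes of integral affine schemes (helper13). -/
import Groth.Agent.PicAux.EffCartierSection
import Groth.Agent.PicAux.GenLocusAffine
import Groth.Agent.Abvar.PicCalc
import Groth.Agent.AlgSp2.Chevalley.AffineDict

/-!
# The dictionary between invertible ideals and Picard classes on an integral affine scheme
-/

set_option autoImplicit false
set_option linter.style.haveILetI false
universe u

open CategoryTheory AlgebraicGeometry Opposite TopologicalSpace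

noncomputable section

namespace Groth.AlgGrpRat.IdealClass

open Groth.PicAux Groth.AlgSp2.Chevalley BlowUp
open scoped Groth.Abvar.PicCalc
open Groth.Abvar.PicCalc (pull pull_cls pull_comp cls_tensorMod)

variable {X Y : Scheme.{u}} [IsAffine X] [IsIntegral X]

/-- The affine open `⊤`. -/
abbrev topA (X : Scheme.{u}) [IsAffine X] : X.affineOpens := ⟨⊤, isAffineOpen_top X⟩

/-- The ideal sheaf of an ideal of global functions. -/
abbrev shf (I : Ideal Γ(X, ⊤)) : X.IdealSheafData := Scheme.IdealSheafData.ofIdealTop I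

omit [IsIntegral X] in
lemma shf_mul (I J : Ideal Γ(X, ⊤)) : shf (I * J) = shf I * shf J :=
  map_mul (Scheme.IdealSheafData.equivOfIsAffine (X := X)).symm I J

/-- An ideal defining an effective Cartier divisor. -/
def InvI (I : Ideal Γ(X, ⊤)) : Prop := IsEffCartierIdeal (shf I)

omit [IsIntegral X] in
lemma InvI.mul {I J : Ideal Γ(X, ⊤)} (hI : InvI I) (hJ : InvI J) : InvI (I * J) := by
  rw [InvI, shf_mul]; exact Divisors.isEffCartierIdeal_mul hI hJ

/-- The class of an invertible ideal. -/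
def clsI {I : Ideal Γ(X, ⊤)} (h : InvI I) : PicLoc.PicSet X :=
  PicGrp.cls (ClSub.idealMod (shf I)) (isInvertible_idealMod h)

lemma clsI_congr {I J : Ideal Γ(X, ⊤)} (hI : InvI I) (hJ : InvI J) (h : I = J) : clsI hI = clsI hJ := by
  subst h; rfl

omit [IsIntegral X] in
lemma clsI_mul {I J : Ideal Γ(X, ⊤)} (hI : InvI I) (hJ : InvI J) :
    clsI (hI.mul hJ) = clsI hI * clsI hJ := by
  rw [clsI, clsI, clsI, ← cls_tensorMod]
  refine (PicGrp.cls_eq_cls_iff _ _).2 ?_
  rw [shf_mul]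
  obtain ⟨e⟩ := idealMod_mul (X := X) hI hJ
  exact ⟨e.symm⟩

lemma isNzdSec_top {d : Γ(X, ⊤)} (hd : d ≠ 0) : Divisors.IsNzdSec d :=
  Divisors.isNzdSec_of_mem (isAffineOpen_top X) (mem_nonZeroDivisors_of_ne_zero hd)

lemma shf_ideal_top (I : Ideal Γ(X, ⊤)) : (shf I).ideal (topA X) = I := topIdeal_ofIdealTop I

lemma invI_span {d : Γ(X, ⊤)} (hd : d ≠ 0) : InvI (Ideal.span {d}) :=
  Divisors.isEffCartierIdeal_of_local fun x =>
    ⟨topA X, trivial, d, isNzdSec_top hd, shf_ideal_top _⟩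

lemma clsI_span {d : Γ(X, ⊤)} (hd : d ≠ 0) : clsI (invI_span hd) = 1 := by
  refine (PicGrp.cls_eq_one_iff _).2 ?_
  obtain ⟨k, hk⟩ := Groth.OmegaSheaf.exists_idealSect (shf (Ideal.span {d})) (topA X)
    (x := d) (by rw [shf_ideal_top]; exact Ideal.mem_span_singleton_self _)
  have hg := gen_idealMod (topA X) (k := k) (hk.symm ▸ isNzdSec_top hd) (by rw [shf_ideal_top, hk])
  exact (Groth.PicAux.nonempty_iso_structure_iff (M := ClSub.idealMod (shf (Ideal.span {d})))).2 ⟨k, hg⟩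

lemma ne_bot {I : Ideal Γ(X, ⊤)} (hI : InvI I) : I ≠ ⊥ := by
  rintro rfl
  obtain ⟨x⟩ := (inferInstance : Nonempty X)
  obtain ⟨U, hxU, f, hf, hfI⟩ := hI x
  have : (⊥ : Ideal Γ(X, U.1)) = Ideal.span {f} := by
    rw [← hfI]
    show ⊥ = (⊥ : Ideal Γ(X, ⊤)).map _
    rw [Ideal.map_bot]
  haveI hne : Nonempty U.1 := ⟨⟨x, hxU⟩⟩
  exact nonZeroDivisors.ne_zero hf (Ideal.span_singleton_eq_bot.1 this.symm)

/-- Two invertible ideals have the same class iff they differ by a principal factor. -/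
theorem clsI_eq_iff {I J : Ideal Γ(X, ⊤)} (hI : InvI I) (hJ : InvI J) :
    clsI hI = clsI hJ ↔ ∃ a b : Γ(X, ⊤), a ≠ 0 ∧ b ≠ 0 ∧ Ideal.span {a} * I = Ideal.span {b} * J := by
  constructor
  · intro h
    obtain ⟨e⟩ := (PicGrp.cls_eq_cls_iff _ _).1 h
    obtain ⟨i₀, hi₀, hi₀0⟩ := Submodule.exists_mem_ne_zero_of_ne_bot (ne_bot hI)
    have hsec : ∀ i ∈ I, ∃ k : Γ(ClSub.idealMod (shf I), ⊤),
        OmegaSh.idealSect (shf I) ⊤ k = i := fun i hi =>
      Groth.OmegaSheaf.exists_idealSect (shf I) (topA X) (by rw [shf_ideal_top]; exact hi)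
    have hsecJ : ∀ j ∈ J, ∃ k : Γ(ClSub.idealMod (shf J), ⊤),
        OmegaSh.idealSect (shf J) ⊤ k = j := fun j hj =>
      Groth.OmegaSheaf.exists_idealSect (shf J) (topA X) (by rw [shf_ideal_top]; exact hj)
    have hmemI : ∀ k : Γ(ClSub.idealMod (shf I), ⊤), OmegaSh.idealSect (shf I) ⊤ k ∈ I := fun k => by
      have := Groth.OmegaSheaf.idealSect_mem (shf I) (topA X) k
      rwa [shf_ideal_top] at this
    have hmemJ : ∀ k : Γ(ClSub.idealMod (shf J), ⊤), OmegaSh.idealSect (shf J) ⊤ k ∈ J := fun k => by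
      have := Groth.OmegaSheaf.idealSect_mem (shf J) (topA X) k
      rwa [shf_ideal_top] at this
    obtain ⟨k₀, hk₀⟩ := hsec i₀ hi₀
    let φ : Γ(ClSub.idealMod (shf I), ⊤) → Γ(X, ⊤) := fun k =>
      OmegaSh.idealSect (shf J) ⊤ (e.hom.app ⊤ k)
    have hφ : ∀ r k, φ (r • k) = r * φ k := fun r k => by
      simp only [φ]
      rw [Scheme.Modules.Hom.app_smul, Groth.OmegaSheaf.idealSect_smul]
    have hlin : ∀ k, OmegaSh.idealSect (shf I) ⊤ k * φ k₀ = i₀ * φ k := fun k => by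
      rw [← hφ, ← hφ]
      congr 1
      apply Groth.OmegaSheaf.idealSect_injective
      rw [Groth.OmegaSheaf.idealSect_smul, Groth.OmegaSheaf.idealSect_smul, hk₀, mul_comm]
    refine ⟨φ k₀, i₀, fun h0 => hi₀0 ?_, hi₀0, le_antisymm ?_ ?_⟩
    · have h1 : e.hom.app ⊤ k₀ = 0 :=
        Groth.OmegaSheaf.idealSect_injective _ _ (h0.trans (map_zero _).symm)
      have h2 : k₀ = 0 := by
        have h3 := congr(($(e.hom_inv_id)).app ⊤ k₀)
        rw [Scheme.Modules.Hom.comp_app] at h3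
        exact h3.symm.trans ((congrArg (e.inv.app ⊤) h1).trans (map_zero _))
      rw [← hk₀, h2, map_zero]
    · rw [Ideal.span_singleton_mul_le_iff]
      intro i hi
      obtain ⟨k, rfl⟩ := hsec i hi
      rw [mul_comm (φ k₀), hlin]
      exact Ideal.mem_span_singleton_mul.2 ⟨_, hmemJ _, rfl⟩
    · rw [Ideal.span_singleton_mul_le_iff]
      intro j hj
      obtain ⟨k', hk'⟩ := hsecJ j hj
      refine Ideal.mem_span_singleton_mul.2 ⟨_, hmemI (e.inv.app ⊤ k'), ?_⟩
      rw [mul_comm, hlin, ← hk']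
      congr 1
      show OmegaSh.idealSect (shf J) ⊤ _ = _
      congr 1
      have h3 := congr(($(e.inv_hom_id)).app ⊤ k')
      rw [Scheme.Modules.Hom.comp_app] at h3
      exact h3
  · rintro ⟨a, b, ha, hb, h⟩
    have h1 := clsI_mul (invI_span ha) hI
    have h2 := clsI_mul (invI_span hb) hJ
    rw [clsI_span ha, one_mul] at h1
    rw [clsI_span hb, one_mul] at h2
    rw [← h1, ← h2]
    exact clsI_congr _ _ h

/-- Every class is the class of an ideal. -/
theorem exists_clsI_eq (c : PicLoc.PicSet X) : ∃ (I : Ideal Γ(X, ⊤)) (hI : InvI I), clsI hI = c := by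
  obtain ⟨L, hL, hc⟩ := PicGrp.exists_eq_cls c⁻¹
  obtain ⟨t, V, hxV, ht⟩ := exists_gsec_gen hL (genericPoint X)
  have hs : homOfSection t ≠ (0 : Coh.structureModule X ⟶ L) := by
    intro h
    have h1 : t = 0 := by rw [← gsec_homOfSection t, h]; rfl
    haveI : Nonempty V := ⟨⟨_, hxV⟩⟩
    exact zero_ne_one ((ht V le_rfl).1 (a₁ := (0 : Γ(X, V))) (a₂ := 1) (by simp [h1]))
  have hreg := regularSection_of_ne_zero hL hs
  let Z := PicF2.zeroScheme L (homOfSection t)
  have hZ : shf (topIdeal Z) = Z := topIdeal_injective (topIdeal_ofIdealTop _)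
  have hI : InvI (topIdeal Z) := by
    rw [InvI, hZ]; exact isEffCartierIdeal_zeroScheme hL hreg
  refine ⟨topIdeal Z, hI, ?_⟩
  have h1 : PicGrp.cls L hL * clsI hI = 1 := by
    rw [clsI, PicGrp.cls_mul_cls_eq_one_iff, hZ]
    exact isInverseOf_zeroScheme hL hreg
  rw [← hc, inv_mul_eq_one] at h1
  exact h1.symm

/-- Invertible ideals have an inverse up to a principal ideal. -/
theorem exists_mul_eq_span {I : Ideal Γ(X, ⊤)} (hI : InvI I) :
    ∃ (I' : Ideal Γ(X, ⊤)) (d : Γ(X, ⊤)), InvI I' ∧ d ≠ 0 ∧ I * I' = Ideal.span {d} := by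
  obtain ⟨I', hI', h⟩ := exists_clsI_eq (clsI hI)⁻¹
  have h1 : clsI (hI.mul hI') = clsI (invI_span (X := X) one_ne_zero) := by
    rw [clsI_mul hI hI', h, mul_inv_cancel, clsI_span one_ne_zero]
  obtain ⟨a, b, ha, hb, he⟩ := (clsI_eq_iff _ _).1 h1
  rw [Ideal.span_singleton_mul_span_singleton, mul_one] at he
  obtain ⟨d, -, hd⟩ := Ideal.mem_span_singleton_mul.1 (he.symm ▸ Ideal.mem_span_singleton_self b :
    b ∈ Ideal.span {a} * (I * I'))
  refine ⟨I', d, hI', fun h0 => hb (by rw [← hd, h0, mul_zero]),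
    (Ideal.span_singleton_mul_right_inj ha).1 ?_⟩
  rw [he, Ideal.span_singleton_mul_span_singleton, hd]

/-- An ideal with an inverse up to a principal ideal is invertible. -/
theorem invI_of_mul_eq_span {I I' : Ideal Γ(X, ⊤)} {d : Γ(X, ⊤)} (hd : d ≠ 0)
    (h : I * I' = Ideal.span {d}) : InvI I := by
  classical
  let T : Set Γ(X, ⊤) := {z | ∃ x ∈ I, ∃ y ∈ I', x * y = d * z}
  have h1 : (1 : Γ(X, ⊤)) ∈ Ideal.span T := by
    have key : ∀ w ∈ I * I', ∃ z ∈ Ideal.span T, w = d * z := by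
      intro w hw
      induction hw using Submodule.mul_induction_on' with
      | mem_mul_mem x hx y hy =>
        obtain ⟨z, hz⟩ : d ∣ x * y := Ideal.mem_span_singleton.1 (h ▸ Ideal.mul_mem_mul hx hy)
        exact ⟨z, Ideal.subset_span ⟨x, hx, y, hy, hz⟩, hz⟩
      | add w _ w' _ hw hw' =>
        obtain ⟨z, hz, rfl⟩ := hw
        obtain ⟨z', hz', rfl⟩ := hw'
        exact ⟨z + z', add_mem hz hz', (mul_add _ _ _).symm⟩
    obtain ⟨z, hz, he⟩ := key d (h ▸ Ideal.mem_span_singleton_self d)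
    rwa [mul_left_cancel₀ hd (show d * 1 = d * z by rw [mul_one]; exact he)]
  refine Divisors.isEffCartierIdeal_of_local fun p => ?_
  have hcov : p ∈ ⨆ z : T, X.basicOpen (z : Γ(X, ⊤)) := by
    rw [IsAffineOpen.iSup_basicOpen_eq_self_iff (isAffineOpen_top X) |>.2 ((Ideal.eq_top_iff_one _).2 h1)]
    trivial
  obtain ⟨⟨z, x, hx, y, hy, hz⟩, hp⟩ := Opens.mem_iSup.1 hcov
  let W : X.affineOpens := X.affineBasicOpen (U := topA X) z
  haveI : Nonempty W.1 := ⟨⟨p, hp⟩⟩
  have hz0 : z ≠ 0 := by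
    rintro rfl
    simp at hp
  have hx0 : x ≠ 0 := fun h0 => mul_ne_zero hd hz0 (by rw [← hz, h0, zero_mul])
  refine ⟨W, hp, (X.presheaf.map (homOfLE le_top).op).hom x, (isNzdSec_top hx0).res _, ?_⟩
  show I.map _ = _
  refine le_antisymm (Ideal.map_le_iff_le_comap.2 fun w hw => ?_)
    ((Ideal.span_singleton_le_iff_mem _).2 (Ideal.mem_map_of_mem _ hx))
  obtain ⟨v, hv⟩ : d ∣ w * y := Ideal.mem_span_singleton.1 (h ▸ Ideal.mul_mem_mul hw hy)
  have h2 : w * z = v * x := mul_left_cancel₀ hd (by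
    calc d * (w * z) = w * (d * z) := by ring
      _ = x * (w * y) := by rw [← hz]; ring
      _ = d * (v * x) := by rw [hv]; ring)
  have hu : IsUnit ((X.presheaf.map (homOfLE (le_top : W.1 ≤ ⊤)).op).hom z) :=
    X.toRingedSpace.isUnit_res_basicOpen z
  refine Ideal.mem_comap.2 (Ideal.mem_span_singleton'.2 ⟨(↑hu.unit⁻¹ : Γ(X, W.1)) *
    (X.presheaf.map (homOfLE le_top).op).hom v, ?_⟩)
  rw [mul_assoc, ← map_mul, ← h2, map_mul, mul_comm _ ((X.presheaf.map _).hom z), ← mul_assoc,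
    IsUnit.val_inv_mul, one_mul]

variable [IsAffine Y] [IsIntegral Y]

/-- Pullback of the class of an ideal. -/
theorem pull_clsI (f : Y ⟶ X) {I : Ideal Γ(X, ⊤)} (hI : InvI I) (hJ : InvI (I.map f.appTop.hom)) :
    pull f (clsI hI) = clsI hJ := by
  have h : (shf I).comap f = shf (I.map f.appTop.hom) := by
    refine topIdeal_injective ?_
    rw [topIdeal_comap, topIdeal_ofIdealTop, topIdeal_ofIdealTop]
  rw [clsI, clsI, pull_cls]
  refine (PicGrp.cls_eq_cls_iff _ _).2 ?_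
  have := pullback_idealMod f (I := shf I) hI (by rw [h]; exact hJ)
  rwa [h] at this

/-- Pullback along a map injective on functions keeps ideals invertible. -/
theorem InvI.map {I : Ideal Γ(X, ⊤)} (hI : InvI I) (f : Y ⟶ X) (hf : Function.Injective f.appTop.hom) :
    InvI (I.map f.appTop.hom) := by
  obtain ⟨I', d, -, hd, he⟩ := exists_mul_eq_span hI
  refine invI_of_mul_eq_span (I' := I'.map f.appTop.hom) (d := f.appTop.hom d)
    (fun h0 => hd (hf (h0.trans (map_zero _).symm))) ?_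
  rw [← Ideal.map_mul, he, Ideal.map_span, Set.image_singleton]

end Groth.AlgGrpRat.IdealClass
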