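/- Finite generation of Picard groups of normal affine varieties rational near a divisor (helper13). -/
import Groth.Agent.AlgGrpRat.IdealClass
import Groth.Agent.RefRank.Algebra
import Mathlib.GroupTheory.FiniteAbelian.Basic
import Mathlib.RingTheory.DiscreteValuationRing.TFAE

/-!
# Classes trivial away from a divisor form a finitely generated group

On a Noetherian integrally closed domain an invertible ideal containing a power of `f` is determined
by its orders at the finitely many height one primes containing `f`.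
-/

set_option autoImplicit false
set_option linter.style.haveILetI false
universe u

open CategoryTheory AlgebraicGeometry Opposite TopologicalSpace

noncomputable section

namespace Groth.AlgGrpRat.FinGen

open IdealClass
open scoped Groth.Abvar.PicCalc

section Alg

variable {A : Type u} [CommRing A] [IsDomain A] [IsNoetherianRing A] [IsIntegrallyClosed A]

omit [IsIntegrallyClosed A] [IsNoetherianRing A] in
theorem not_lt_of_height_le_one [IsNoetherianRing A] {Q M : Ideal A} [Q.IsPrime] [M.IsPrime] (hQ : Q ≠ ⊥)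
    (hM : M.height ≤ 1) : ¬ Q < M := fun hlt => by
  have h1 : (⊥ : Ideal A).height + 1 ≤ Q.height :=
    Ideal.height_add_one_le_of_lt_of_isPrime (bot_lt_iff_ne_bot.2 hQ)
  have h2 : Q.height + 1 ≤ M.height := Ideal.height_add_one_le_of_lt_of_isPrime hlt
  rw [Ideal.height_bot, zero_add] at h1
  exact absurd (((add_le_add h1 le_rfl).trans h2).trans hM) (by norm_num)

theorem isDVR_of_height_one (P : Ideal A) [P.IsPrime] (hP : P.height = 1) :
    IsDiscreteValuationRing (Localization.AtPrime P) := by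
  have hle : P.primeCompl ≤ nonZeroDivisors A := P.primeCompl_le_nonZeroDivisors
  haveI : IsIntegrallyClosed (Localization.AtPrime P) := isIntegrallyClosed_of_isLocalization _ P.primeCompl hle
  have hdim : ringKrullDim (Localization.AtPrime P) = 1 := by
    rw [IsLocalization.AtPrime.ringKrullDim_eq_height P, hP]; rfl
  have hnf : ¬ IsField (Localization.AtPrime P) := fun h => by
    rw [ringKrullDim_eq_zero_of_isField h] at hdim
    exact zero_ne_one hdim
  refine ((IsDiscreteValuationRing.TFAE _ hnf).out 3 0 rfl rfl).1 ⟨inferInstance,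
    IsLocalRing.maximalIdeal _, ⟨(IsLocalRing.isField_iff_maximalIdeal_eq.not.1 hnf), inferInstance⟩, ?_⟩
  rintro Q ⟨hQ0, hQ⟩
  haveI := hQ
  have hM : (IsLocalRing.maximalIdeal (Localization.AtPrime P)).height ≤ 1 := by
    have h3 := Ideal.height_le_ringKrullDim_of_ne_top
      (IsLocalRing.maximalIdeal.isMaximal (Localization.AtPrime P)).ne_top
    rw [hdim] at h3
    exact WithBot.coe_le_coe.1 h3
  exact (IsLocalRing.le_maximalIdeal hQ.ne_top).eq_of_not_lt (not_lt_of_height_le_one hQ0 hM)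

/-- The height one primes containing `f`. -/
def Sf (f : A) : Set (Ideal A) := {P | P.IsPrime ∧ P.height = 1 ∧ f ∈ P}

theorem finite_Sf {f : A} (hf : f ≠ 0) : (Sf f).Finite := by
  refine (Ideal.finite_minimalPrimes_of_isNoetherianRing A (Ideal.span {f})).subset ?_
  rintro P ⟨hP, hP1, hfP⟩
  refine ⟨⟨hP, (Ideal.span_singleton_le_iff_mem _).2 hfP⟩, fun Q ⟨hQ, hfQ⟩ hQP => ?_⟩
  haveI := hP
  haveI := hQ
  have hQ0 : Q ≠ ⊥ := fun h0 => hf (by
    have := hfQ (Ideal.mem_span_singleton_self f)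
    rwa [h0, Ideal.mem_bot] at this)
  exact (hQP.eq_of_not_lt (not_lt_of_height_le_one hQ0 hP1.le)).ge

/-- The order of an ideal at a height one prime. -/
theorem exists_ord (P : Ideal A) [P.IsPrime] (hP : P.height = 1) {J : Ideal A} (hJ : J ≠ ⊥) :
    ∃ n : ℕ, J.map (algebraMap A (Localization.AtPrime P)) =
      IsLocalRing.maximalIdeal (Localization.AtPrime P) ^ n := by
  haveI := isDVR_of_height_one P hP
  obtain ⟨ϖ, hϖ⟩ := IsDiscreteValuationRing.exists_irreducible (Localization.AtPrime P)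
  have hne : J.map (algebraMap A (Localization.AtPrime P)) ≠ ⊥ := fun h =>
    hJ ((Ideal.map_eq_bot_iff_of_injective
      (IsLocalization.injective (Localization.AtPrime P) P.primeCompl_le_nonZeroDivisors)).1 h)
  obtain ⟨n, hn⟩ := IsDiscreteValuationRing.ideal_eq_span_pow_irreducible hne hϖ
  exact ⟨n, by rw [hn, hϖ.maximalIdeal_eq, Ideal.span_singleton_pow]⟩

open Classical in
/-- The order of an ideal at a height one prime. -/
def ordAt (P : Ideal A) (J : Ideal A) : ℕ :=
  if h : P.IsPrime ∧ P.height = 1 ∧ J ≠ ⊥ then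
    letI := h.1; (exists_ord P h.2.1 h.2.2).choose else 0

theorem map_eq_pow_ordAt (P : Ideal A) [hp : P.IsPrime] (hP : P.height = 1) {J : Ideal A} (hJ : J ≠ ⊥) :
    J.map (algebraMap A (Localization.AtPrime P)) =
      IsLocalRing.maximalIdeal (Localization.AtPrime P) ^ ordAt P J := by
  have h : P.IsPrime ∧ P.height = 1 ∧ J ≠ ⊥ := ⟨hp, hP, hJ⟩
  rw [ordAt, dif_pos h]
  exact (exists_ord P h.2.1 h.2.2).choose_spec

theorem ordAt_mul (P : Ideal A) [P.IsPrime] (hP : P.height = 1) {J K : Ideal A} (hJ : J ≠ ⊥)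
    (hK : K ≠ ⊥) : ordAt P (J * K) = ordAt P J + ordAt P K := by
  haveI := isDVR_of_height_one P hP
  have h := map_eq_pow_ordAt P hP (mul_ne_zero hJ hK : J * K ≠ ⊥)
  rw [Ideal.map_mul, map_eq_pow_ordAt P hP hJ, map_eq_pow_ordAt P hP hK, ← pow_add] at h
  exact (Ideal.pow_right_strictAnti _ (IsDiscreteValuationRing.not_a_field _)
    (IsLocalRing.maximalIdeal.isMaximal _).ne_top).injective h.symm

/-- Invertible ideals containing a power of `f` are determined by their orders. -/
theorem eq_of_ordAt_eq {f : A} {J K K' : Ideal A} {d : A} (hd : d ≠ 0) (hK : K * K' = Ideal.span {d})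
    (hJ0 : J ≠ ⊥) (hK0 : K ≠ ⊥) {m : ℕ} (hJf : f ^ m ∈ J) (hKf : f ^ m ∈ K)
    (h : ∀ P ∈ Sf f, ordAt P J = ordAt P K) : J ≤ K := by
  have hloc : ∀ P : Ideal A, P.IsPrime → P.height = 1 → ∀ x ∈ J, ∃ s ∉ P, s * x ∈ K := by
    intro P hP hP1 x hx
    by_cases hf : f ∈ P
    · haveI := hP
      have hx' : algebraMap A (Localization.AtPrime P) x ∈ K.map (algebraMap A (Localization.AtPrime P)) := by
        rw [map_eq_pow_ordAt P hP1 hK0, ← h P ⟨hP, hP1, hf⟩, ← map_eq_pow_ordAt P hP1 hJ0]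
        exact Ideal.mem_map_of_mem _ hx
      obtain ⟨s, hs, hsx⟩ := (IsLocalization.algebraMap_mem_map_algebraMap_iff P.primeCompl _ K x).1 hx'
      exact ⟨s, hs, hsx⟩
    · exact ⟨f ^ m, fun h' => hf (hP.mem_of_pow_mem m h'), K.mul_mem_right x hKf⟩
  have hle : J * K' ≤ K * K' := by
    rw [hK, Ideal.mul_le]
    intro x hx y hy
    refine Ideal.mem_span_singleton.2 (Groth.RefRank.dvd_of_height_one hd fun P hP hP1 => ?_)
    obtain ⟨s, hs, hsx⟩ := hloc P hP hP1 x hx
    refine ⟨s, hs, Ideal.mem_span_singleton.1 (hK ▸ ?_)⟩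
    rw [← mul_assoc]
    exact Ideal.mul_mem_mul hsx hy
  refine (Ideal.span_singleton_mul_right_mono hd).1 ?_
  rw [← hK]
  calc K * K' * J = K * (J * K') := by ring
    _ ≤ K * (K * K') := mul_le_mul' le_rfl hle
    _ = K * K' * K := by ring

end Alg

variable {X : Scheme.{u}} [IsAffine X] [IsIntegral X]

/-- If every class has a representing ideal containing a power of `f`, the Picard group is finitely
generated. -/
theorem fg_pic [IsNoetherianRing Γ(X, ⊤)] [IsIntegrallyClosed Γ(X, ⊤)] {f : Γ(X, ⊤)} (hf : f ≠ 0)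
    (h : ∀ c : PicLoc.PicSet X, ∃ (I : Ideal Γ(X, ⊤)) (hI : InvI I), clsI hI = c ∧ ∃ m : ℕ, f ^ m ∈ I) :
    Group.FG (PicLoc.PicSet X) := by
  classical
  haveI : Finite (Sf f) := (finite_Sf hf).to_subtype
  -- pairs of a class and its orders
  let K : Subgroup (PicLoc.PicSet X × Multiplicative (Sf f → ℤ)) :=
    Subgroup.closure {z | ∃ (I : Ideal Γ(X, ⊤)) (hI : InvI I), clsI hI = z.1 ∧ (∃ m : ℕ, f ^ m ∈ I) ∧
      z.2 = Multiplicative.ofAdd fun P => (ordAt P.1 I : ℤ)}
  let W : Submonoid (PicLoc.PicSet X × Multiplicative (Sf f → ℤ)) :=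
    { carrier := {z | ∃ (I : Ideal Γ(X, ⊤)) (hI : InvI I), clsI hI = z.1 ∧ (∃ m : ℕ, f ^ m ∈ I) ∧
        z.2 = Multiplicative.ofAdd fun P => (ordAt P.1 I : ℤ)}
      one_mem' := by
        refine ⟨Ideal.span {1}, invI_span one_ne_zero, clsI_span one_ne_zero, ⟨0, by simp⟩, ?_⟩
        show (1 : Multiplicative (Sf f → ℤ)) = _
        rw [← ofAdd_zero]
        congr 1
        funext P
        haveI := P.2.1
        have h1 := ordAt_mul P.1 P.2.2.1 (ne_bot (invI_span (X := X) one_ne_zero))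
          (ne_bot (invI_span (X := X) one_ne_zero))
        rw [Ideal.span_singleton_mul_span_singleton, mul_one] at h1
        simp only [Pi.zero_apply]
        omega
      mul_mem' := by
        rintro z z' ⟨I, hI, hz, ⟨m, hm⟩, hz2⟩ ⟨I', hI', hz', ⟨m', hm'⟩, hz2'⟩
        refine ⟨I * I', hI.mul hI', ?_, ⟨m + m', pow_add f m m' ▸ Ideal.mul_mem_mul hm hm'⟩, ?_⟩
        · rw [clsI_mul hI hI', hz, hz']; rfl
        · rw [Prod.snd_mul, hz2, hz2', ← ofAdd_add]
          congr 1
          funext P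
          haveI := P.2.1
          simp [ordAt_mul P.1 P.2.2.1 (ne_bot hI) (ne_bot hI')] }
  have hK : ∀ z ∈ K, ∃ a ∈ W, ∃ b ∈ W, z = a / b := by
    intro z hz
    induction hz using Subgroup.closure_induction with
    | mem z hz => exact ⟨z, hz, 1, W.one_mem, (div_one z).symm⟩
    | one => exact ⟨1, W.one_mem, 1, W.one_mem, (div_one _).symm⟩
    | mul x y _ _ hx hy =>
      obtain ⟨a, ha, b, hb, rfl⟩ := hx
      obtain ⟨a', ha', b', hb', rfl⟩ := hy
      exact ⟨a * a', W.mul_mem ha ha', b * b', W.mul_mem hb hb', (mul_div_mul_comm _ _ _ _).symm⟩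
    | inv x _ hx =>
      obtain ⟨a, ha, b, hb, rfl⟩ := hx
      exact ⟨b, hb, a, ha, inv_div _ _⟩
  let q : K →* Multiplicative (Sf f → ℤ) := (MonoidHom.snd _ _).comp K.subtype
  let p : K →* PicLoc.PicSet X := (MonoidHom.fst _ _).comp K.subtype
  have hq : Function.Injective q := by
    rw [injective_iff_map_eq_one]
    rintro ⟨z, hz⟩ h1
    obtain ⟨⟨a₁, a₂⟩, ⟨I, hI, hIa, ⟨m, hm⟩, ha₂⟩, ⟨b₁, b₂⟩, ⟨J, hJ, hJb, ⟨m', hm'⟩, hb₂⟩, rfl⟩ := hK z hz
    have he : a₂ = b₂ := div_eq_one.1 h1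
    have hn : ∀ P ∈ Sf f, ordAt P I = ordAt P J := fun P hP => by
      have := congrFun (Multiplicative.ofAdd.injective ((ha₂.symm.trans he).trans hb₂)) ⟨P, hP⟩
      exact_mod_cast this
    have hIJ : I = J := by
      obtain ⟨I', d, -, hd, hII⟩ := exists_mul_eq_span hI
      obtain ⟨J', e, -, he', hJJ⟩ := exists_mul_eq_span hJ
      have hm₁ : f ^ (m + m') ∈ I := by rw [pow_add]; exact I.mul_mem_right _ hm
      have hm₂ : f ^ (m + m') ∈ J := by rw [pow_add]; exact J.mul_mem_left _ hm' 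
      exact le_antisymm (eq_of_ordAt_eq he' hJJ (ne_bot hI) (ne_bot hJ) hm₁ hm₂ hn)
        (eq_of_ordAt_eq hd hII (ne_bot hJ) (ne_bot hI) hm₂ hm₁ fun P hP => (hn P hP).symm)
    refine Subtype.ext (Prod.ext ?_ h1)
    show a₁ / b₁ = 1
    rw [div_eq_one]
    refine hIa.symm.trans (Eq.trans ?_ hJb)
    exact clsI_congr _ _ hIJ
  have hp : Function.Surjective p := fun c => by
    obtain ⟨I, hI, hc, hm⟩ := h c
    exact ⟨⟨(c, Multiplicative.ofAdd fun P => (ordAt P.1 I : ℤ)),
      Subgroup.subset_closure ⟨I, hI, hc, hm, rfl⟩⟩, rfl⟩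
  haveI : Group.FG K := by
    rw [GroupFG.iff_add_fg, ← Module.Finite.iff_addGroup_fg]
    let l : Additive K →ₗ[ℤ] (Sf f → ℤ) := AddMonoidHom.toIntLinearMap (MonoidHom.toAdditiveLeft q)
    exact Module.Finite.of_injective l hq
  exact Group.fg_of_surjective hp

end Groth.AlgGrpRat.FinGen
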