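/- Picard groups of connected linear algebraic groups are finite (helper13). -/
import Groth.Agent.AlgGrpRat.PicAct
import Groth.Agent.AlgGrpRat.InvIdealTorsion
import Groth.Agent.AlgGrpRat.PicFinGen
import Groth.Agent.AlgGrp1.AffineGrp
import Groth.Agent.PicAux.UFDSpec
import Groth.Agent.AlgGrp2.Units

/-!
# Finiteness of the Picard group of a connected linear algebraic group
-/

set_option autoImplicit false
set_option linter.style.haveILetI false
set_option linter.unusedSectionVars false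
universe u

open CategoryTheory CategoryTheory.Limits MonoidalCategory CartesianMonoidalCategory MonObj GrpObj AlgebraicGeometry
open scoped TensorProduct

noncomputable section

namespace Groth.AlgGrpRat

open IdealClass
open scoped Groth.Abvar.PicCalc
open Groth.Abvar.PicCalc (pull pull_comp pull_id)

/-- Classes trivial on a basic open have representatives containing a power of the equation. -/
theorem exists_rep_pow_mem {X : Scheme.{u}} [IsAffine X] [IsIntegral X] [IsNoetherianRing Γ(X, ⊤)]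
    {f : Γ(X, ⊤)} (hne : (X.basicOpen f : Set X).Nonempty)
    (htriv : ∀ c : PicLoc.PicSet (X.basicOpen f : Scheme.{u}), c = 1) (c : PicLoc.PicSet X) :
    ∃ (I : Ideal Γ(X, ⊤)) (hI : InvI I), clsI hI = c ∧ ∃ m : ℕ, f ^ m ∈ I := by
  haveI : IsAffine (X.basicOpen f : Scheme.{u}) := (isAffineOpen_top X).basicOpen f
  haveI : Nonempty (X.basicOpen f : Scheme.{u}) := hne.to_subtype
  haveI : IsIntegral (X.basicOpen f : Scheme.{u}) := isIntegral_of_isOpenImmersion (X.basicOpen f).ι
  have hinj : Function.Injective (X.basicOpen f).ι.appTop.hom :=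
    Groth.AlgGrp2.UnitsVar.appTop_injective (X.basicOpen f).ι
  have hloc : IsLocalization.Away f Γ((X.basicOpen f : Scheme.{u}), ⊤) := inferInstance
  have halg : algebraMap Γ(X, ⊤) Γ((X.basicOpen f : Scheme.{u}), ⊤) = (X.basicOpen f).ι.appTop.hom := by
    rw [RingHom.algebraMap_toAlgebra]
  set φ := (X.basicOpen f).ι.appTop.hom with hφ
  obtain ⟨I, hI, hc⟩ := exists_clsI_eq c
  have hIm : InvI (I.map φ) := hI.map _ hinj
  have h1 : clsI hIm = clsI (invI_span (X := (X.basicOpen f : Scheme.{u})) one_ne_zero) := by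
    rw [clsI_span one_ne_zero]; exact htriv _
  obtain ⟨a, b, ha, hb, he⟩ := (clsI_eq_iff _ _).1 h1
  rw [Ideal.span_singleton_mul_span_singleton, _root_.mul_one] at he
  obtain ⟨e, -, hae⟩ := Ideal.mem_span_singleton_mul.1 (he.symm ▸ Ideal.mem_span_singleton_self b :
    b ∈ Ideal.span {a} * I.map φ)
  have hImap : I.map φ = Ideal.span {e} := by
    refine (Ideal.span_singleton_mul_right_inj ha).1 ?_
    rw [he, Ideal.span_singleton_mul_span_singleton, hae]
  -- a generator from `I`
  have hmem : ∀ w : Γ(X, ⊤), φ w ∈ I.map φ ↔ ∃ m : ℕ, f ^ m * w ∈ I := by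
    intro w
    rw [← halg, IsLocalization.algebraMap_mem_map_algebraMap_iff (Submonoid.powers f)]
    exact ⟨fun ⟨_, ⟨m, rfl⟩, h⟩ => ⟨m, h⟩, fun ⟨m, h⟩ => ⟨_, ⟨m, rfl⟩, h⟩⟩
  obtain ⟨⟨g₀, ⟨_, j, rfl⟩⟩, hg₀⟩ := IsLocalization.surj (Submonoid.powers f) e
  simp only [halg] at hg₀
  have hfu : ∀ j : ℕ, IsUnit (φ (f ^ j)) := fun j => halg ▸ IsLocalization.map_units _
    (⟨f ^ j, j, rfl⟩ : Submonoid.powers f)
  obtain ⟨l, hl⟩ : ∃ l : ℕ, f ^ l * g₀ ∈ I := (hmem g₀).1 (by
    rw [← hg₀, hImap]; exact Ideal.mul_mem_right _ _ (Ideal.mem_span_singleton_self e))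
  set g := f ^ l * g₀ with hg
  have hgmap : I.map φ = Ideal.span {φ g} := by
    rw [hImap, hg, map_mul, ← hg₀, Ideal.span_singleton_mul_left_unit (hfu l),
      Ideal.span_singleton_mul_right_unit (hfu j)]
  have hg0 : g ≠ 0 := fun h0 => ne_bot hIm (by rw [hgmap, h0, map_zero, Ideal.span_singleton_eq_bot])
  have hbd : ∀ w ∈ I, ∃ m : ℕ, f ^ m * w ∈ Ideal.span {g} := by
    intro w hw
    have hw' : φ w ∈ (Ideal.span {g}).map φ := by
      rw [Ideal.map_span, Set.image_singleton, ← hgmap]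
      exact Ideal.mem_map_of_mem _ hw
    rw [← halg, IsLocalization.algebraMap_mem_map_algebraMap_iff (Submonoid.powers f)] at hw'
    obtain ⟨_, ⟨m, rfl⟩, h⟩ := hw'
    exact ⟨m, h⟩
  obtain ⟨m, hm⟩ : ∃ m : ℕ, Ideal.span {f ^ m} * I ≤ Ideal.span {g} := by
    obtain ⟨S, hS⟩ := (IsNoetherian.noetherian I : I.FG)
    have hmS : ∀ s ∈ S, ∃ m : ℕ, f ^ m * s ∈ Ideal.span {g} := fun s hs =>
      hbd s (hS ▸ Submodule.subset_span hs)
    choose m hm using hmS
    refine ⟨∑ s : S, m s.1 s.2, ?_⟩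
    rw [Ideal.span_singleton_mul_le_iff]
    intro w hw
    rw [← hS] at hw
    induction hw using Submodule.span_induction with
    | mem s hs =>
      obtain ⟨t, ht⟩ := Nat.exists_eq_add_of_le
        (Finset.single_le_sum (f := fun s : S => m s.1 s.2) (fun _ _ => Nat.zero_le _)
          (Finset.mem_univ ⟨s, hs⟩))
      rw [ht, pow_add, mul_right_comm]
      exact Ideal.mul_mem_right _ _ (hm s hs)
    | zero => simp
    | add a b _ _ ha hb => rw [mul_add]; exact add_mem ha hb
    | smul r a _ ha => rw [smul_eq_mul, mul_left_comm]; exact Ideal.mul_mem_left _ _ ha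
  -- the ideal `J` with `f^m I = g J`
  let J : Ideal Γ(X, ⊤) := Submodule.comap (LinearMap.mulLeft Γ(X, ⊤) g) (Ideal.span {f ^ m} * I)
  have hJ : Ideal.span {g} * J = Ideal.span {f ^ m} * I := by
    refine le_antisymm (Ideal.span_singleton_mul_le_iff.2 fun z hz => hz) fun y hy => ?_
    obtain ⟨z, rfl⟩ := Ideal.mem_span_singleton.1 (hm hy)
    exact Ideal.mul_mem_mul (Ideal.mem_span_singleton_self g) hy
  have hfm : f ^ m ∈ J := by
    show g * f ^ m ∈ Ideal.span {f ^ m} * I
    rw [mul_comm g]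
    exact Ideal.mul_mem_mul (Ideal.mem_span_singleton_self _) hl
  obtain ⟨I', d, -, hd, hII⟩ := exists_mul_eq_span hI
  have hf0 : f ^ m ≠ 0 := fun h0 => by
    obtain ⟨x, hx⟩ := hne
    have hf : f = 0 := eq_zero_of_pow_eq_zero h0
    rw [hf] at hx
    simp at hx
  have h2 : Ideal.span {g} * (J * I') = Ideal.span {f ^ m * d} := by
    rw [← _root_.mul_assoc, hJ, _root_.mul_assoc, hII, Ideal.span_singleton_mul_span_singleton]
  obtain ⟨d', -, hd'⟩ := Ideal.mem_span_singleton_mul.1 (h2.symm ▸ Ideal.mem_span_singleton_self _ :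
    f ^ m * d ∈ Ideal.span {g} * (J * I'))
  have hJI : InvI J := invI_of_mul_eq_span (I' := I') (d := d')
    (fun h0 => mul_ne_zero hf0 hd (by rw [← hd', h0, mul_zero]))
    ((Ideal.span_singleton_mul_right_inj hg0).1 (by
      rw [h2, Ideal.span_singleton_mul_span_singleton, hd']))
  refine ⟨J, hJI, ?_, m, hfm⟩
  rw [← hc]
  exact (clsI_eq_iff _ _).2 ⟨g, f ^ m, hg0, hf0, hJ⟩

/-- Sums of ideals of functions on `Spec A`. -/
abbrev sI (A : Type u) [CommRing A] : A →+* Γ(Spec (CommRingCat.of A), ⊤) :=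
  (Scheme.ΓSpecIso (CommRingCat.of A)).inv.hom

theorem sI_bijective (A : Type u) [CommRing A] : Function.Bijective (sI A) :=
  ConcreteCategory.bijective_of_isIso (Scheme.ΓSpecIso (CommRingCat.of A)).inv

theorem map_sI {A B : Type u} [CommRing A] [CommRing B] (φ : A →+* B) (J : Ideal A) :
    (J.map (sI A)).map (Spec.map (CommRingCat.ofHom φ)).appTop.hom = (J.map φ).map (sI B) := by
  rw [Ideal.map_map, Ideal.map_map]
  congr 1
  exact congrArg CommRingCat.Hom.hom (Scheme.ΓSpecIso_inv_naturality (CommRingCat.ofHom φ)).symm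

theorem appTop_injective_spec {A B : Type u} [CommRing A] [CommRing B] (φ : A →+* B)
    (hφ : Function.Injective φ) : Function.Injective (Spec.map (CommRingCat.ofHom φ)).appTop.hom := by
  intro x y h
  obtain ⟨a, rfl⟩ := (sI_bijective A).2 x
  obtain ⟨b, rfl⟩ := (sI_bijective A).2 y
  have e : ∀ z, (Spec.map (CommRingCat.ofHom φ)).appTop.hom (sI A z) = sI B (φ z) := fun z =>
    congr($((Scheme.ΓSpecIso_inv_naturality (CommRingCat.ofHom φ)).symm).hom z)
  rw [e, e] at h
  rw [hφ ((sI_bijective B).1 h)]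

theorem InvI.pow {X : Scheme.{u}} [IsAffine X] [IsIntegral X] {I : Ideal Γ(X, ⊤)} (hI : InvI I) :
    ∀ n : ℕ, ∃ h : InvI (I ^ n), clsI h = clsI hI ^ n
  | 0 => by
    have he : I ^ 0 = Ideal.span {(1 : Γ(X, ⊤))} := by
      rw [pow_zero, Ideal.span_singleton_one, Ideal.one_eq_top]
    exact ⟨he.symm ▸ invI_span (X := X) one_ne_zero,
      (clsI_congr _ (invI_span one_ne_zero) he).trans ((clsI_span one_ne_zero).trans (pow_zero _).symm)⟩
  | n + 1 => by
    obtain ⟨h, he⟩ := InvI.pow hI n
    exact ⟨(pow_succ I n).symm ▸ h.mul hI, (clsI_congr _ _ (pow_succ I n)).trans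
      ((clsI_mul h hI).trans ((congrArg (· * clsI hI) he).trans (pow_succ _ n).symm))⟩

variable {k : Type u} [Field k] [IsAlgClosed k]

/-- Integral closedness of the coordinate ring of a normal affine scheme. -/
theorem isIntegrallyClosed_of_normal (A : Type u) [CommRing A] [IsDomain A]
    (h : Pi1.IsNormalScheme (Spec (CommRingCat.of A))) : IsIntegrallyClosed A := by
  refine IsIntegrallyClosed.of_localization_maximal fun p _ hp => ?_
  let pt : Spec (CommRingCat.of A) := ⟨p, hp.isPrime⟩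
  haveI : IsIntegrallyClosed ((structurePresheafInCommRingCat (CommRingCat.of A)).stalk ⟨p, hp.isPrime⟩) :=
    (h pt).2
  exact IsIntegrallyClosed.of_equiv
    (StructureSheaf.stalkIso (CommRingCat.of A) ⟨p, hp.isPrime⟩).symm.toRingEquiv

variable (A : Type u) [CommRing A] [HopfAlgebra k A] [Algebra.FiniteType k A]

/-- Classes on a connected linear group are torsion. -/
theorem exists_pow_eq_one [Smooth (CoactBr.sp k A).hom] [ConnectedSpace ↥(CoactBr.sp k A).left]
    [IsIntegral (CoactBr.sp k A).left] (c : PicLoc.PicSet (Spec (CommRingCat.of A))) :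
    ∃ n : ℕ, 0 < n ∧ c ^ n = 1 := by
  haveI : IsIntegral (Spec (CommRingCat.of A)) := inferInstanceAs (IsIntegral (CoactBr.sp k A).left)
  haveI : IsDomain A := (affine_isIntegral_iff (CommRingCat.of A)).1 inferInstance
  haveI : IsDomain (A ⊗[k] A) := Groth.VarietyBC.isDomain_tensor
  let G := CoactBr.sp k A
  haveI : IsAffine G.left := inferInstanceAs (IsAffine (Spec (CommRingCat.of A)))
  haveI : IsSeparated G.hom := inferInstanceAs (IsSeparated (Spec.map _))
  haveI : QuasiCompact G.hom := inferInstanceAs (QuasiCompact (Spec.map _))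
  have hN : Pi1.IsNormalScheme G.left :=
    Groth.NeronArea.isNormalScheme_of_smooth G.hom (isNormalScheme_spec_field k)
  -- the class is multiplicative
  obtain ⟨α, β, hαβ⟩ := exists_split G G hN (Groth.Abvar.PicCalc.pullMulCl _)
    (Groth.Abvar.PicCalc.pullMulCl _) (pull μ[G].left c)
  change pull (fst G G).left α * pull (snd G G).left β = pull μ[G].left c at hαβ
  have hpt : ∀ d : PicLoc.PicSet G.left, pull (toUnit G ≫ η[G]).left d = 1 := fun d =>
    Groth.Abvar.PicCalc.opull_toUnit_comp η[G] d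
  have hα : α = c := by
    have := congrArg (pull (lift (𝟙 G) (toUnit G ≫ η[G])).left) hαβ
    simpa only [map_mul, ← pull_comp, ← Over.comp_left, lift_fst, lift_snd, lift_comp_one_right,
      Over.id_left, pull_id, hpt, _root_.mul_one] using this
  have hβ : β = c := by
    have := congrArg (pull (lift (toUnit G ≫ η[G]) (𝟙 G)).left) hαβ
    simpa only [map_mul, ← pull_comp, ← Over.comp_left, lift_fst, lift_snd, lift_comp_one_left,
      Over.id_left, pull_id, hpt, _root_.one_mul] using this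
  rw [hα, hβ] at hαβ
  have hspec : pull (Spec.map (CommRingCat.ofHom (Torsion.Δ k A).toRingHom)) c =
      pull (Spec.map (CommRingCat.ofHom (Torsion.iL k A).toRingHom)) c *
        pull (Spec.map (CommRingCat.ofHom (Torsion.iR k A).toRingHom)) c := by
    have h1 : (pullbackSpecIso k A A).inv ≫ μ[G].left =
        Spec.map (CommRingCat.ofHom (Torsion.Δ k A).toRingHom) := by
      show (pullbackSpecIso k A A).inv ≫
        μ[(Spec (CommRingCat.of A)).asOver (Spec (CommRingCat.of k))].left = _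
      rw [mul_spec_asOver_spec_left]
      exact (pullbackSpecIso k A A).inv_hom_id_assoc _
    have h2 : (pullbackSpecIso k A A).inv ≫ (fst G G).left =
        Spec.map (CommRingCat.ofHom (Torsion.iL k A).toRingHom) := pullbackSpecIso_inv_fst k A A
    have h3 : (pullbackSpecIso k A A).inv ≫ (snd G G).left =
        Spec.map (CommRingCat.ofHom (Torsion.iR k A).toRingHom) := pullbackSpecIso_inv_snd k A A
    refine (congrArg (fun m => pull m c) h1.symm).trans ?_
    refine (pull_comp _ _ c).trans ?_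
    refine ((congrArg (pull (pullbackSpecIso k A A).inv) hαβ.symm).trans (map_mul _ _ _)).trans ?_
    exact congrArg₂ (· * ·) ((pull_comp _ _ c).symm.trans (congrArg (fun m => pull m c) h2))
      ((pull_comp _ _ c).symm.trans (congrArg (fun m => pull m c) h3))
  -- a representing ideal not vanishing at the unit
  obtain ⟨I, hI, hcI⟩ := exists_clsI_eq (X := Spec (CommRingCat.of A)) c
  obtain ⟨J, rfl⟩ : ∃ J : Ideal A, J.map (sI A) = I :=
    ⟨I.comap (sI A), Ideal.map_comap_of_surjective _ (sI_bijective A).2 I⟩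
  have hback : ∀ {B : Type u} [CommRing B] {P Q : Ideal B}, P.map (sI B) = Q.map (sI B) → P = Q := by
    intro B _ P Q h
    rw [← Ideal.comap_map_of_bijective _ (sI_bijective B) (I := P), h,
      Ideal.comap_map_of_bijective _ (sI_bijective B)]
  obtain ⟨I', d₀, -, hd₀, hII⟩ := exists_mul_eq_span hI
  obtain ⟨J', rfl⟩ : ∃ J' : Ideal A, J'.map (sI A) = I' :=
    ⟨I'.comap (sI A), Ideal.map_comap_of_surjective _ (sI_bijective A).2 I'⟩
  obtain ⟨d, rfl⟩ := (sI_bijective A).2 d₀
  have hd : d ≠ 0 := fun h => hd₀ (by rw [h, map_zero])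
  have hJJ : J * J' = Ideal.span {d} := hback (by
    rw [Ideal.map_mul, hII, Ideal.map_span, Set.image_singleton])
  obtain ⟨x, hx, y, hy, z, hxy, hz⟩ : ∃ x ∈ J, ∃ y ∈ J', ∃ z, x * y = d * z ∧ Torsion.cε k A z ≠ 0 := by
    by_contra hne
    push Not at hne
    have hle : J * J' ≤ Ideal.span {d} * RingHom.ker (Torsion.cε k A) := by
      rw [Ideal.mul_le]
      intro x hx y hy
      obtain ⟨z, hz⟩ : d ∣ x * y := Ideal.mem_span_singleton.1 (hJJ ▸ Ideal.mul_mem_mul hx hy)
      rw [hz]
      exact Ideal.mul_mem_mul (Ideal.mem_span_singleton_self d) (hne x hx y hy z hz)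
    obtain ⟨z, hz, hdz⟩ := Ideal.mem_span_singleton_mul.1 (hle (hJJ ▸ Ideal.mem_span_singleton_self d))
    have h1 : z = 1 := mul_left_cancel₀ hd (by rw [hdz, _root_.mul_one])
    rw [h1] at hz
    simp [RingHom.mem_ker] at hz
  let K : Ideal A := Submodule.comap (LinearMap.mulLeft A d) (Ideal.span {y} * J)
  have hsub : Ideal.span {y} * J ≤ Ideal.span {d} := by
    rw [← hJJ, mul_comm J J']
    exact Ideal.mul_mono ((Ideal.span_singleton_le_iff_mem _).2 hy) le_rfl
  have hK : Ideal.span {d} * K = Ideal.span {y} * J := by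
    refine le_antisymm (Ideal.span_singleton_mul_le_iff.2 fun w hw => hw) fun w hw => ?_
    obtain ⟨v, rfl⟩ := Ideal.mem_span_singleton.1 (hsub hw)
    exact Ideal.mul_mem_mul (Ideal.mem_span_singleton_self d) hw
  have hy0 : y ≠ 0 := fun h => hz (by
    rw [h, mul_zero] at hxy
    rw [(mul_eq_zero.1 hxy.symm).resolve_left hd, map_zero])
  have hKJ : K * J' = Ideal.span {y} := (Ideal.span_singleton_mul_right_inj hd).1 (by
    rw [← _root_.mul_assoc, hK, _root_.mul_assoc, hJJ, mul_comm])
  have hsy : sI A y ≠ 0 := fun h => hy0 ((sI_bijective A).1 (h.trans (map_zero _).symm))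
  have hKI : InvI (K.map (sI A)) := invI_of_mul_eq_span (I' := J'.map (sI A)) hsy (by
    rw [← Ideal.map_mul, hKJ, Ideal.map_span, Set.image_singleton])
  have hcK : clsI hKI = c := by
    rw [← hcI]
    refine (clsI_eq_iff _ _).2 ⟨sI A d, sI A y, hd₀, hsy, ?_⟩
    have h := congrArg (Ideal.map (sI A)) hK
    rwa [Ideal.map_mul, Ideal.map_mul, Ideal.map_span, Ideal.map_span, Set.image_singleton,
      Set.image_singleton] at h
  let s₀ : A := algebraMap k A (Torsion.cε k A z)⁻¹ * z
  have hs : s₀ ∈ K := K.mul_mem_left _ (by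
    show d * z ∈ Ideal.span {y} * J
    rw [← hxy, mul_comm x y]
    exact Ideal.mul_mem_mul (Ideal.mem_span_singleton_self y) hx)
  have hs1 : Torsion.cε k A s₀ = 1 := by
    simp only [s₀, map_mul, AlgHom.commutes, Algebra.algebraMap_self, RingHom.id_apply]
    exact inv_mul_cancel₀ hz
  -- compare the pullbacks
  haveI : IsIntegral (Spec (CommRingCat.of (A ⊗[k] A))) :=
    (affine_isIntegral_iff (CommRingCat.of (A ⊗[k] A))).2 ‹_›
  have hmap : ∀ e : A →ₐ[k] A ⊗[k] A, Function.Injective e →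
      ∃ h : InvI ((K.map e.toRingHom).map (sI (A ⊗[k] A))),
        clsI h = pull (Spec.map (CommRingCat.ofHom e.toRingHom)) c := by
    intro e he
    have h := hKI.map (Spec.map (CommRingCat.ofHom e.toRingHom)) (appTop_injective_spec _ he)
    refine ⟨map_sI e.toRingHom K ▸ h, ?_⟩
    rw [← hcK, pull_clsI _ hKI h]
    exact clsI_congr _ _ (map_sI e.toRingHom K).symm
  obtain ⟨hL, hLc⟩ := hmap (Torsion.iL k A)
    (fun a b h => by simpa using congrArg (Torsion.e₁ k A) h)
  obtain ⟨hR, hRc⟩ := hmap (Torsion.iR k A)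
    (fun a b h => by simpa using congrArg (Torsion.e₂ k A) h)
  obtain ⟨hD, hDc⟩ := hmap (Torsion.Δ k A) Torsion.comul_injective
  have heq : clsI hD = clsI (hL.mul hR) := by rw [clsI_mul hL hR, hDc, hLc, hRc, hspec]
  obtain ⟨a₀, b₀, ha, hb, hab⟩ := (clsI_eq_iff _ _).1 heq
  obtain ⟨a, rfl⟩ := (sI_bijective (A ⊗[k] A)).2 a₀
  obtain ⟨b, rfl⟩ := (sI_bijective (A ⊗[k] A)).2 b₀
  have hab' : Ideal.span {a} * K.map (Torsion.Δ k A) = Ideal.span {b} * Torsion.J₂ k A K := by
    refine hback ?_
    simp only [Ideal.map_mul, Ideal.map_span, Set.image_singleton]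
    exact hab
  obtain ⟨n, D, hn, hD'⟩ := Torsion.exists_pow_eq_span hy0 hKJ hs hs1
    (fun h => ha (by rw [h, map_zero])) (fun h => hb (by rw [h, map_zero])) hab'
  refine ⟨n, hn, ?_⟩
  obtain ⟨hP, hPc⟩ := InvI.pow hKI n
  rw [← hcK, ← hPc]
  have hn' : K.map (sI A) ^ n = Ideal.span {sI A D} := by
    rw [← Ideal.map_pow, hD', Ideal.map_span, Set.image_singleton]
  have hD0 : sI A D ≠ 0 := fun h => ne_bot hP (by rw [hn', h, Ideal.span_singleton_eq_bot])
  exact (clsI_congr _ (invI_span hD0) hn').trans (clsI_span hD0)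

/-- The Picard group of a connected linear group is finite. -/
theorem finite_pic_spec [Smooth (CoactBr.sp k A).hom] [ConnectedSpace ↥(CoactBr.sp k A).left] :
    Finite (PicLoc.PicSet (Spec (CommRingCat.of A))) := by
  let G := CoactBr.sp k A
  haveI : Smooth G.hom := ‹Smooth (CoactBr.sp k A).hom›
  haveI : IsAffine G.left := inferInstanceAs (IsAffine (Spec (CommRingCat.of A)))
  haveI := Groth.AlgGrp1.irreducibleSpace_of_connected G
  haveI : IsReduced G.left := Groth.AlgGrp1.isReduced_of_smooth G.hom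
  haveI : IsIntegral G.left := isIntegral_of_irreducibleSpace_of_isReduced _
  haveI : IsIntegral (Spec (CommRingCat.of A)) := inferInstanceAs (IsIntegral G.left)
  haveI : IsDomain A := (affine_isIntegral_iff (CommRingCat.of A)).1 inferInstance
  haveI : IsNoetherianRing A := Algebra.FiniteType.isNoetherianRing k A
  have hN : Pi1.IsNormalScheme G.left :=
    Groth.NeronArea.isNormalScheme_of_smooth G.hom (isNormalScheme_spec_field k)
  have hAC : IsIntegrallyClosed A := isIntegrallyClosed_of_normal A hN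
  let eA : A ≃+* Γ(Spec (CommRingCat.of A), ⊤) := RingEquiv.ofBijective (sI A) (sI_bijective A)
  haveI : IsNoetherianRing Γ(Spec (CommRingCat.of A), ⊤) := isNoetherianRing_of_ringEquiv A eA
  haveI : IsIntegrallyClosed Γ(Spec (CommRingCat.of A), ⊤) := IsIntegrallyClosed.of_equiv eA
  -- a basic open isomorphic to an open of affine space
  obtain ⟨U₀, n, V, e₀, hU, -⟩ := Groth.Agent.S16121.result k G
  let U : (Spec (CommRingCat.of A)).Opens := U₀
  let e : (U : Scheme.{u}) ≅ (V : Scheme.{u}) := e₀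
  obtain ⟨x, hx⟩ := hU
  obtain ⟨f, hfU, hxf⟩ := (isAffineOpen_top (Spec (CommRingCat.of A))).exists_basicOpen_le
    (V := U) ⟨x, hx⟩ trivial
  have hne : ((Spec (CommRingCat.of A)).basicOpen f : Set (Spec (CommRingCat.of A))).Nonempty := ⟨x, hxf⟩
  have hf0 : f ≠ 0 := by rintro rfl; simp at hxf
  let P : CommRingCat.{u} := CommRingCat.of (MvPolynomial (ULift.{u} (Fin n)) k)
  haveI : IsDomain P := inferInstanceAs (IsDomain (MvPolynomial (ULift.{u} (Fin n)) k))
  haveI : UniqueFactorizationMonoid P :=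
    inferInstanceAs (UniqueFactorizationMonoid (MvPolynomial (ULift.{u} (Fin n)) k))
  let j : ((Spec (CommRingCat.of A)).basicOpen f : Scheme.{u}) ⟶ Spec P :=
    (Spec (CommRingCat.of A)).homOfLE hfU ≫ e.hom ≫ V.ι ≫
      (AffineSpace.SpecIso (ULift.{u} (Fin n)) (CommRingCat.of k)).hom
  have htriv : ∀ c : PicLoc.PicSet ((Spec (CommRingCat.of A)).basicOpen f : Scheme.{u}), c = 1 := by
    intro c
    have hc : c = pull j.isoOpensRange.hom (pull j.isoOpensRange.inv c) := by
      rw [← pull_comp, Iso.hom_inv_id, pull_id]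
    obtain ⟨L, hL, hLc⟩ := PicGrp.exists_eq_cls (pull j.isoOpensRange.inv c)
    have h1 : pull j.isoOpensRange.inv c = 1 := by
      rw [hLc]
      exact (PicGrp.cls_eq_one_iff hL).2 (Groth.PicAux.trivial_of_open_spec P j.opensRange L hL)
    rw [hc, h1, map_one]
  haveI : Group.FG (PicLoc.PicSet (Spec (CommRingCat.of A))) :=
    FinGen.fg_pic hf0 (exists_rep_pow_mem hne htriv)
  refine CommGroup.finite_of_fg_isMulTorsion _ fun c => ?_
  obtain ⟨m, hm, hc⟩ := exists_pow_eq_one (k := k) A c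
  exact isOfFinOrder_iff_pow_eq_one.2 ⟨m, hm, hc⟩

end Groth.AlgGrpRat
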