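import Groth.Agent.AlgGrpRat.UnipRat
import Groth.Agent.Agf2.UnipPart
import Groth.Agent.AlgGrp1.CartanBorel
import Mathlib.RingTheory.Localization.Away.Basic

/-!
# Tori and connected nilpotent groups are rational
-/

set_option autoImplicit false
set_option linter.style.haveILetI false
set_option linter.unusedSectionVars false
universe u

open CategoryTheory CategoryTheory.Limits MonoidalCategory CartesianMonoidalCategory MonObj GrpObj
  AlgebraicGeometry

noncomputable section

namespace Groth.AlgGrpRat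

variable {k : Type u} [Field k]

local notation "𝕊" => Spec (CommRingCat.of k)

/-- The Laurent polynomials are a localization of the polynomials. -/
theorem exists_away_laurent (r : ℕ) :
    ∃ φ : MvPolynomial (ULift.{u} (Fin r)) k →ₐ[k] MonoidAlgebra k (Multiplicative (Fin r → ℤ)),
      letI := φ.toRingHom.toAlgebra
      IsLocalization.Away (∏ i, MvPolynomial.X i : MvPolynomial (ULift.{u} (Fin r)) k)
        (MonoidAlgebra k (Multiplicative (Fin r → ℤ))) := by
  classical
  let Lat := Multiplicative (Fin r → ℤ)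
  let N := MonoidAlgebra k Lat
  let P := MvPolynomial (ULift.{u} (Fin r)) k
  let e : ULift.{u} (Fin r) → Lat := fun i => Multiplicative.ofAdd (Pi.single i.down 1)
  let φ : P →ₐ[k] N := MvPolynomial.aeval fun i => MonoidAlgebra.single (e i) (1 : k)
  refine ⟨φ, ?_⟩
  let m : P := ∏ i, MvPolynomial.X i
  let L := Localization.Away m
  letI := φ.toRingHom.toAlgebra
  have hu : ∀ i, IsUnit (algebraMap P L (MvPolynomial.X i)) := fun i =>
    isUnit_of_dvd_unit (map_dvd _ (Finset.dvd_prod_of_mem _ (Finset.mem_univ i)))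
      (IsLocalization.Away.algebraMap_isUnit m)
  let F : Lat →* Lˣ :=
    { toFun := fun n => ∏ i : ULift.{u} (Fin r), (hu i).unit ^ (Multiplicative.toAdd n i.down)
      map_one' := by simp
      map_mul' := fun a b => by
        rw [← Finset.prod_mul_distrib]
        exact Finset.prod_congr rfl fun i _ => by rw [toAdd_mul, Pi.add_apply, zpow_add] }
  let Ψ : N →ₐ[k] L := MonoidAlgebra.lift k L Lat ((Units.coeHom L).comp F)
  have hΨs : ∀ (n : Lat) (c : k), Ψ (MonoidAlgebra.single n c) = c • ((F n : Lˣ) : L) := fun n c =>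
    MonoidAlgebra.lift_single _ _ _
  have hφX : ∀ i, φ (MvPolynomial.X i) = MonoidAlgebra.single (e i) (1 : k) := fun i => MvPolynomial.aeval_X _ i
  have hΨ : ∀ p : P, Ψ (φ p) = algebraMap P L p := by
    refine fun p => DFunLike.congr_fun (show Ψ.comp φ = IsScalarTower.toAlgHom k P L from
      MvPolynomial.algHom_ext fun i => ?_) p
    rw [AlgHom.comp_apply, hφX, hΨs, one_smul]
    show ((F (e i) : Lˣ) : L) = algebraMap P L (MvPolynomial.X i)
    simp only [F, e, MonoidHom.coe_mk, OneHom.coe_mk, toAdd_ofAdd]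
    rw [Finset.prod_eq_single i (fun j _ hj => by
      rw [Pi.single_eq_of_ne (fun h => hj (ULift.ext _ _ h)), zpow_zero]) (by simp)]
    simp
  have hm : IsUnit (φ m) := by
    rw [map_prod]
    refine IsUnit.prod_univ_iff.2 fun i => ?_
    rw [MvPolynomial.aeval_X]
    exact IsUnit.map (MonoidAlgebra.of k Lat) (Group.isUnit (e i))
  let Φ : L →ₐ[P] N :=
    { IsLocalization.Away.lift m (g := algebraMap P N) hm with
      commutes' := fun p => IsLocalization.Away.lift_eq m hm p }
  have h1 : ∀ p, Φ (algebraMap P L p) = φ p := fun p => Φ.commutes p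
  have hΨΦ : ∀ x, Ψ (Φ x) = x := fun x => DFunLike.congr_fun
    (IsLocalization.ringHom_ext (Submonoid.powers m) (j := Ψ.toRingHom.comp Φ.toRingHom) (k := RingHom.id L)
      (RingHom.ext fun p => by
        show Ψ (Φ (algebraMap P L p)) = algebraMap P L p
        rw [h1, hΨ])) x
  have hΦΨ : ∀ x, Φ (Ψ x) = x := by
    have hgen : ∀ i, Φ ((F (e i) : Lˣ) : L) = MonoidAlgebra.single (e i) 1 := fun i => by
      have := hΨ (MvPolynomial.X i)
      rw [hφX, hΨs, one_smul] at this
      rw [this, h1, hφX]
    let G : Lat →* Nˣ := (Φ.toRingHom.toMonoidHom.comp ((Units.coeHom L).comp F)).toHomUnits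
    have hG : ∀ n : Lat, G n = (MonoidAlgebra.of k Lat).toHomUnits n := by
      intro n
      have hn : n = ∏ i : Fin r, e ⟨i⟩ ^ (Multiplicative.toAdd n i) := by
        apply Multiplicative.toAdd.injective
        rw [toAdd_prod]
        refine funext fun j => ?_
        rw [Finset.sum_apply]
        show _ = ∑ c, ((Multiplicative.toAdd n c) • (Pi.single c 1 : Fin r → ℤ)) j
        simp [Pi.single_apply]
      rw [hn, map_prod, map_prod]
      refine Finset.prod_congr rfl fun i _ => ?_
      rw [map_zpow, map_zpow]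
      exact congrArg (· ^ _) (Units.ext (hgen ⟨i⟩))
    intro x
    induction x using MonoidAlgebra.induction_linear with
    | zero => simp
    | add a b ha hb => rw [map_add, map_add, ha, hb]
    | single n c =>
      rw [hΨs, Algebra.smul_def, map_mul, IsScalarTower.algebraMap_apply k P L, h1,
        show Φ ((F n : Lˣ) : L) = MonoidAlgebra.of k Lat n from congrArg Units.val (hG n)]
      simp only [φ.commutes, MonoidAlgebra.of_apply]
      rw [← Algebra.smul_def, MonoidAlgebra.smul_single, smul_eq_mul, _root_.mul_one]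
  exact IsLocalization.isLocalization_of_algEquiv (Submonoid.powers m)
    (AlgEquiv.ofBijective Φ ⟨Function.LeftInverse.injective hΨΦ, Function.RightInverse.surjective hΦΨ⟩)

/-- The split torus is rational. -/
theorem isRat_diag (r : ℕ) : IsRat (CoactBr.sp k (MonoidAlgebra k (Multiplicative (Fin r → ℤ)))) := by
  obtain ⟨φ, hφ⟩ := exists_away_laurent (k := k) r
  letI := φ.toRingHom.toAlgebra
  haveI := hφ
  let ψ : CoactBr.sp k (MonoidAlgebra k (Multiplicative (Fin r → ℤ))) ⟶
      CoactBr.sp k (MvPolynomial (ULift.{u} (Fin r)) k) := CoactBr.pt φ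
  have hψ : IsOpenImmersion ψ.left := by
    rw [CoactBr.pt_left]
    exact IsOpenImmersion.of_isLocalization (∏ i, MvPolynomial.X i : MvPolynomial (ULift.{u} (Fin r)) k)
  let ia : CoactBr.sp k (MvPolynomial (ULift.{u} (Fin r)) k) ≅ An k r :=
    Over.isoMk (AffineSpace.SpecIso (ULift.{u} (Fin r)) (CommRingCat.of k)).symm (by
      show (AffineSpace.SpecIso (ULift.{u} (Fin r)) (CommRingCat.of k)).inv ≫ (𝔸(ULift.{u} (Fin r); 𝕊) ↘ 𝕊) = _
      rw [AffineSpace.SpecIso_inv_over]
      rfl)
  have := isIso_left ia.hom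
  exact ⟨r, _, 𝟙 _, ψ ≫ ia.hom, inferInstanceAs (IsOpenImmersion (𝟙 _)), by rw [Over.comp_left]; infer_instance,
    ⟨⟨RingHom.ker (Bialgebra.counitAlgHom k (MonoidAlgebra k (Multiplicative (Fin r → ℤ)))),
      RingHom.ker_isPrime _⟩⟩⟩

variable [IsAlgClosed k]

/-- Tori are rational. -/
theorem isRat_torus {T : Over 𝕊} [GrpObj T] (hT : Red.IsTorus T) : IsRat T := by
  obtain ⟨r, e, -⟩ := Groth.AlgGrp1.exists_diag_iso_of_isTorus hT
  exact (isRat_diag r).of_iso e

/-- A connected solvable group with an absorbing torus is rational. -/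
theorem isRat_of_absorbing {B T : Over 𝕊} [GrpObj B] [GrpObj T] [IsAffine B.left] [Smooth B.hom]
    [ConnectedSpace B.left] (hT : Red.IsTorus T) (t : T ⟶ B) [IsMonHom t] (π : B ⟶ T) [IsMonHom π]
    (hπ : t ≫ π = 𝟙 T)
    (habs : ∀ (U : Over 𝕊) [GrpObj U] (j : U ⟶ B) [IsMonHom j], Red.IsTorus U →
      ∃ b : 𝟙_ (Over 𝕊) ⟶ B, (j ≫ π) ≫ t = AGF.conjBy b j) : IsRat B := by
  obtain ⟨U, _, u, hu, huc, hUs, hUc, -, hUu, -, hker⟩ := Groth.Agf2.exists_unipotentPart hT t π hπ habs
  haveI := hu; haveI := huc; haveI := hUs; haveI := hUc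
  have : Mono u := Over.mono_of_mono_left u
  obtain ⟨r, hr⟩ := (hker B ((π ≫ t)⁻¹ * 𝟙 B)).2 (by
    simp only [MonObj.mul_comp, GrpObj.inv_comp, Category.assoc, hπ, Category.comp_id, Category.id_comp,
      inv_mul_cancel])
  let e : T ⊗ U ≅ B :=
    { hom := (fst T U ≫ t) * (snd T U ≫ u)
      inv := lift π r
      hom_inv_id := by
        have h2 : ((fst T U ≫ t) * (snd T U ≫ u)) ≫ π = fst T U := by
          rw [MonObj.mul_comp, Category.assoc, hπ, Category.comp_id, (hker _ (snd T U ≫ u)).1 ⟨_, rfl⟩,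
            _root_.mul_one]
        refine CartesianMonoidalCategory.hom_ext _ _ (by rw [Category.assoc, lift_fst, h2, Category.id_comp]) ?_
        rw [← cancel_mono u, Category.assoc, Category.assoc, lift_snd_assoc, hr, Category.id_comp,
          MonObj.comp_mul, GrpObj.comp_inv, ← Category.assoc _ π, h2, Category.comp_id, inv_mul_cancel_left]
      inv_hom_id := by rw [MonObj.comp_mul, lift_fst_assoc, lift_snd_assoc, hr, mul_inv_cancel_left] }
  exact ((isRat_torus hT).tensor (isRat_unipotent hUu)).of_iso e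

end Groth.AlgGrpRat
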