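import Groth.Agent.AlgGrpRat.Unipotent

/-!
# Rationality of connected unipotent groups
-/

set_option autoImplicit false
set_option linter.style.haveILetI false
set_option linter.unusedSectionVars false
universe u

open CategoryTheory CategoryTheory.Limits MonoidalCategory CartesianMonoidalCategory MonObj GrpObj
  AlgebraicGeometry

noncomputable section

namespace Groth.AlgGrpRat

variable {k : Type u} [Field k] [IsAlgClosed k]

local notation "𝕊" => Spec (CommRingCat.of k)
local notation "pt" => 𝟙_ (Over (Spec (CommRingCat.of k)))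

omit [IsAlgClosed k] in
theorem isRat_unit : IsRat (pt) :=
  (isRat_An (k := k) 0).of_iso
    { hom := toUnit _
      inv := ofVec (fun i => i.elim0)
      hom_inv_id := An_ext fun i => i.elim0
      inv_hom_id := toUnit_unique _ _ }

/-- A group with only one rational point is a point. -/
theorem isRat_of_points {U : Over 𝕊} [GrpObj U] [Smooth U.hom] (h : ∀ x : pt ⟶ U, x = 1) : IsRat U := by
  have := Groth.AlgGrp1.isSeparated_grpObj U
  refine (isRat_unit (k := k)).of_iso
    { hom := η[U]
      inv := toUnit U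
      hom_inv_id := toUnit_unique _ _
      inv_hom_id := hom_ext_points fun t => ?_ }
  rw [Category.comp_id, h t]
  exact (h _)

omit [IsAlgClosed k] in
/-- Affine algebraic schemes have finite dimension. -/
theorem exists_dim_le {A : Type u} [CommRing A] [Algebra k A] [Algebra.FiniteType k A] :
    ∃ n : ℕ, topologicalKrullDim (PrimeSpectrum A) ≤ n := by
  obtain ⟨n, f, hf⟩ := Algebra.FiniteType.iff_quotient_mvPolynomial''.1 ‹Algebra.FiniteType k A›
  refine ⟨n, ?_⟩
  rw [PrimeSpectrum.topologicalKrullDim_eq_ringKrullDim]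
  refine (ringKrullDim_le_of_surjective f.toRingHom hf).trans ?_
  rw [MvPolynomial.ringKrullDim_of_isNoetherianRing, ringKrullDim_eq_zero_of_field, zero_add]
  simp

/-- The quotient by a central subgroup. -/
theorem exists_quotient_central {U : Over 𝕊} [GrpObj U] [Smooth U.hom] [QuasiCompact U.hom]
    [ConnectedSpace U.left] (j : Red.Ga 𝕊 ⟶ U) [IsMonHom j] [IsClosedImmersion j.left] (hj : IsCentral j) :
    ∃ (Q : Over 𝕊) (_ : GrpObj Q) (q : U ⟶ Q), IsMonHom q ∧ LocallyOfFiniteType Q.hom ∧ QuasiCompact Q.hom ∧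
      Flat q.left ∧ Surjective q.left ∧ AlgGrp.IsKernel j q ∧
      topologicalKrullDim Q.left + 1 = topologicalKrullDim U.left := by
  have := smooth_Ga (k := k)
  have := isAffine_Ga (k := k)
  obtain ⟨Q, q, _, hlft, hs, hf, _, hsq, -, hqc, -, hcomp⟩ := Groth.Agent.S5351.result k (Red.Ga 𝕊) U j
  haveI := hlft; haveI := hs; haveI := hf
  have hn : AlgGrp.IsNormalHom j := fun T g n => ⟨n, by rw [hj T n g, mul_inv_cancel_right]⟩
  have hcond : ∀ (T : Over 𝕊) (u v : T ⟶ U), u ≫ q = v ≫ q ↔ ∃ n : T ⟶ Red.Ga 𝕊, v = u * (n ≫ j) := by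
    intro T u v
    have e : ∀ (n : T ⟶ Red.Ga 𝕊) (w : T ⟶ U), lift n w ≫ (j ▷ U) ≫ μ[U] = (n ≫ j) * w := fun n w => by
      rw [Hom.mul_def, lift_whiskerRight_assoc]
    constructor
    · intro h
      let l := hsq.lift v u h.symm
      have h1 : l ≫ (j ▷ U) ≫ μ[U] = v := hsq.lift_fst _ _ _
      have h2 : l ≫ snd (Red.Ga 𝕊) U = u := hsq.lift_snd _ _ _
      refine ⟨l ≫ fst _ _, ?_⟩
      rw [hj T _ u, ← e, ← h2, ← comp_lift, lift_fst_snd, Category.comp_id, h1]
    · rintro ⟨n, rfl⟩
      rw [hj T n u, ← e, Category.assoc, hsq.w, lift_snd_assoc]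
  obtain ⟨_, hq, hk⟩ := Groth.AlgGrp1.exists_grpObj_quotient j hn q (Groth.AlgGrp1.isCover q) hcond
  haveI := hq
  have : Mono j := Over.mono_of_mono_left j
  have hconn := Groth.AlgGrp1.connectedSpace_of_surjective q
  refine ⟨Q, inferInstance, q, hq, hlft, hqc inferInstance, hf, hs, ?_, ?_⟩
  · exact Groth.AlgGrp1.IsKernel.mk' ‹Mono j› fun T g => (hk T g).symm
  · obtain ⟨x⟩ := (inferInstance : Nonempty Q.left)
    obtain ⟨-, -, h⟩ := hcomp x
    rwa [PreconnectedSpace.connectedComponent_eq_univ x, dim_Ga,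
      (Homeomorph.Set.univ Q.left).isHomeomorph.topologicalKrullDim_eq] at h

theorem isRat_unipotent_aux (n : ℕ) : ∀ (U : Over 𝕊) [GrpObj U] [Smooth U.hom] [ConnectedSpace U.left],
    Groth.URad.IsUnip U → topologicalKrullDim U.left ≤ n → IsRat U := by
  induction n using Nat.strong_induction_on with
  | _ n ih =>
    intro U _ _ _ hU hdim
    by_cases hne : ∃ x : pt ⟶ U, x ≠ 1
    swap
    · push Not at hne
      exact isRat_of_points hne
    have := hU.isAffine
    obtain ⟨j, hj, hjc, hcen⟩ := exists_central_Ga hU hne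
    haveI := hj; haveI := hjc
    obtain ⟨Q, _, q, hq, hlft, hqc, hf, hs, hker, hd⟩ := exists_quotient_central j hcen
    haveI := hq; haveI := hlft; haveI := hqc; haveI := hf; haveI := hs
    have := Groth.AlgGrp1.smooth_of_flat_surjective_hom q
    have := Groth.AlgGrp1.connectedSpace_of_surjective q
    have hQ := hU.of_quotient q
    have hQn : ∃ m < n, topologicalKrullDim Q.left ≤ (m : ℕ) := by
      rcases n with _ | m
      · exfalso
        have hge : (0 : WithBot ℕ∞) ≤ topologicalKrullDim Q.left := by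
          obtain ⟨x⟩ := (inferInstance : Nonempty Q.left)
          have : Nonempty (TopologicalSpace.IrreducibleCloseds Q.left) :=
            ⟨⟨closure {x}, isIrreducible_singleton.closure, isClosed_closure⟩⟩
          rw [topologicalKrullDim]
          exact Order.krullDim_nonneg
        have := (add_le_add hge le_rfl).trans (hd.trans_le hdim)
        simp at this
        exact not_le.2 zero_lt_one this
      · refine ⟨m, m.lt_succ_self, ?_⟩
        rw [← hd, Nat.cast_succ] at hdim
        exact ENat.WithBot.add_le_add_one_right_iff.1 hdim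
    obtain ⟨m, hm, hQm⟩ := hQn
    exact isRat_of_central_Ga q j hker hcen (ih m hm Q hQ hQm)

/-- Connected unipotent groups are rational. -/
theorem isRat_unipotent {U : Over 𝕊} [GrpObj U] [Smooth U.hom] [ConnectedSpace U.left]
    (hU : Groth.URad.IsUnip U) : IsRat U := by
  obtain ⟨A, _, _, _, e, _, -⟩ := id hU
  obtain ⟨n, hn⟩ := exists_dim_le (k := k) (A := A)
  have := isIso_left e.hom
  refine isRat_unipotent_aux n U hU ?_
  exact (IsHomeomorph.topologicalKrullDim_eq _ e.hom.left.homeomorph.isHomeomorph).ge.trans hn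

end Groth.AlgGrpRat
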