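import Groth.Agent.AlgGrpRat.CentralGa
import Groth.Agent.URad.Unip
import Groth.Agent.AlgGrpIsog.SubDim
import Groth.Agent.AlgGrpIsog.UnipTorus
import Groth.Agent.AlgGrp1.NilpotentGrp
import Groth.Agent.AlgGrp1.QuotGrp
import Groth.Agent.GaDual.WittUnip.Line
import Groth.Agent.Misc1.Unip.DimOne.Classify
import Groth.Agent.S12500
import Groth.Agent.S5351
import Groth.Agent.GrpschAbsch.AffineSpaceExtra

/-!
# Connected unipotent groups are rational
-/

set_option autoImplicit false
set_option linter.style.haveILetI false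
universe u

open CategoryTheory CategoryTheory.Limits MonoidalCategory CartesianMonoidalCategory MonObj GrpObj
  AlgebraicGeometry TopologicalSpace
open scoped TensorProduct Groth.Agf

noncomputable section

namespace Groth.AlgGrpRat

variable {k : Type u} [Field k]

local notation "𝕊" => Spec (CommRingCat.of k)
local notation "pt" => 𝟙_ (Over (Spec (CommRingCat.of k)))

/-- The spectrum of the field is the terminal object. -/
def ptIso (k : Type u) [Field k] : CoactBr.sp k k ≅ 𝟙_ (Over (Spec (CommRingCat.of k))) :=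
  Over.isoMk (Iso.refl _) (by
    show 𝟙 _ ≫ 𝟙 _ = Spec.map (CommRingCat.ofHom (algebraMap k k))
    rw [Category.comp_id, Algebra.algebraMap_self]
    exact (Spec.map_id _).symm)

variable [IsAlgClosed k]

theorem hom_ext_points {T X : Over 𝕊} [Smooth T.hom] [IsSeparated X.hom] {f g : T ⟶ X}
    (h : ∀ t : pt ⟶ T, t ≫ f = t ≫ g) : f = g := by
  have := Groth.AlgGrp1.geometricallyReduced_of_smooth_hom T
  refine Groth.AlgGrp1.eq_of_sepClosed_points k f g fun t => ?_
  exact (cancel_epi (ptIso k).inv).1 (((Category.assoc _ _ _).symm.trans (h _)).trans (Category.assoc _ _ _))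

theorem isNilpotent_points {G : Over 𝕊} [GrpObj G] {A : Type u} [CommRing A] [HopfAlgebra k A]
    [Algebra.FiniteType k A] (e : CoactBr.sp k A ≅ G) [IsMonHom e.hom] (hU : HopfRep.IsUnipotent k A) :
    Group.IsNilpotent (pt ⟶ G) := by
  have : Group.IsNilpotent (WithConv (A →ₐ[k] k)) := Groth.Agent.S7986.result k A hU
  let F : (CoactBr.sp k k ⟶ G) →* (pt ⟶ G) :=
    MonoidHom.mk' (fun x => (ptIso k).inv ≫ x) fun a b => MonObj.comp_mul _ _ _
  refine Group.nilpotent_of_surjective (F.comp (Groth.AlgGrp1.hopfPts e)) ?_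
  rw [MonoidHom.coe_comp]
  exact Function.Surjective.comp (fun y => ⟨(ptIso k).hom ≫ y, (ptIso k).inv_hom_id_assoc y⟩)
    (Groth.AlgGrp1.hopfPts_surjective e)

variable {U : Over (Spec (CommRingCat.of k))} [GrpObj U]

/-- A nontrivial unipotent group has a nontrivial connected central subgroup. -/
theorem exists_central_sub [Smooth U.hom] [ConnectedSpace U.left] (hU : Groth.URad.IsUnip U)
    (hne : ∃ x : pt ⟶ U, x ≠ 1) :
    ∃ (K : Over 𝕊) (_ : GrpObj K) (c : K ⟶ U), IsMonHom c ∧ IsClosedImmersion c.left ∧ Smooth K.hom ∧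
      ConnectedSpace K.left ∧ IsCentral c ∧ ∃ x : pt ⟶ K, x ≠ 1 := by
  classical
  have := hU.isAffine
  obtain ⟨A, _, _, _, e, he, hA⟩ := id hU
  haveI := he
  have := isNilpotent_points e hA
  have : Smooth (U ⊗ U).hom := Groth.AlgGrp1.smooth_tensor_over U U
  have hsep := Groth.AlgGrp1.isSeparated_grpObj U
  by_cases hc : Subgroup.center (pt ⟶ U) = ⊤
  · refine ⟨U, inferInstance, 𝟙 U, inferInstance, inferInstanceAs (IsClosedImmersion (𝟙 _)), inferInstance,
      inferInstance, fun T a g => ?_, hne⟩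
    have h : fst U U * snd U U = snd U U * fst U U := hom_ext_points fun t => by
      rw [MonObj.comp_mul, MonObj.comp_mul]
      exact Subgroup.mem_center_iff.1 (hc ▸ Subgroup.mem_top _) _
    rw [Category.comp_id]
    simpa [MonObj.comp_mul] using congrArg (lift g a ≫ ·) h
  obtain ⟨g, hg2, hg1⟩ : ∃ g, g ∈ Subgroup.upperCentralSeries (pt ⟶ U) 2 ∧ g ∉ Subgroup.center (pt ⟶ U) := by
    by_contra hne'
    push Not at hne'
    refine hc ?_
    obtain ⟨n, hn⟩ := Group.IsNilpotent.nilpotent' (G := pt ⟶ U)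
    have hall : ∀ m, Subgroup.upperCentralSeries (pt ⟶ U) m ≤ Subgroup.center (pt ⟶ U) := by
      intro m
      induction m with
      | zero => simp
      | succ m ih =>
        intro x hx
        refine hne' x (Subgroup.mem_upperCentralSeries_succ_iff.2 fun y => ?_)
        rw [Subgroup.upperCentralSeries_one]
        exact ih (Subgroup.mem_upperCentralSeries_succ_iff.1 hx y)
    exact top_unique (hn ▸ hall n)
  obtain ⟨c, hc'⟩ : ∃ c : U ⟶ U, ∀ x : pt ⟶ U, x ≫ c = g * x * g⁻¹ * x⁻¹ :=
    ⟨(toUnit U ≫ g) * 𝟙 U * (toUnit U ≫ g)⁻¹ * (𝟙 U)⁻¹, fun x => by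
      simp only [MonObj.comp_mul, GrpObj.comp_inv, Category.comp_id, ← Category.assoc,
        toUnit_unique (x ≫ toUnit U) (𝟙 _), Category.id_comp]⟩
  have hcen : ∀ x y : pt ⟶ U, y * (x ≫ c) = (x ≫ c) * y := fun x y => by
    have := Subgroup.mem_upperCentralSeries_succ_iff.1 hg2 x
    rw [Subgroup.upperCentralSeries_one, commutatorElement_def, ← hc'] at this
    exact Subgroup.mem_center_iff.1 this y
  have hmul : (fst U U * snd U U) ≫ c = (fst U U ≫ c) * (snd U U ≫ c) := hom_ext_points fun t => by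
    rw [← Category.assoc, MonObj.comp_mul, MonObj.comp_mul, ← Category.assoc, ← Category.assoc]
    set x := t ≫ fst U U
    set y := t ≫ snd U U
    have h1 : (x * y) ≫ c = (x ≫ c) * (x * (y ≫ c) * x⁻¹) := by rw [hc', hc', hc']; group
    rw [h1, hcen y x, mul_inv_cancel_right]
  have : IsMonHom c := Groth.AlgGrp1.isMonHom_of_points c fun T x y => by
    simpa [MonObj.comp_mul, ← Category.assoc] using congrArg (lift x y ≫ ·) hmul
  have hcenM : (snd U U : U ⊗ U ⟶ U) * (fst U U ≫ c) = (fst U U ≫ c) * snd U U := hom_ext_points fun t => by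
    rw [MonObj.comp_mul, MonObj.comp_mul, ← Category.assoc]
    exact hcen _ _
  obtain ⟨K, _, j, q, hj, hjc, hq, hKl, hKq, _, _, hqj⟩ := Groth.AlgGrp1.exists_image_hom c
  haveI := hj; haveI := hjc; haveI := hq; haveI := hKl
  refine ⟨K, inferInstance, j, hj, hjc, Groth.AlgGrp1.smooth_of_flat_surjective_hom q,
    Groth.AlgGrp1.connectedSpace_of_surjective q, fun T b y => ?_, ?_⟩
  · obtain ⟨T', e', w, he', hw⟩ := (Groth.AlgGrp1.isCover q).exists_lift b
    refine he'.cancel ?_
    rw [MonObj.comp_mul, MonObj.comp_mul, ← Category.assoc, ← hw, Category.assoc, hqj]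
    simpa [MonObj.comp_mul, ← Category.assoc] using congrArg (lift w (e' ≫ y) ≫ ·) hcenM
  · by_contra hall
    push Not at hall
    refine hg1 (Subgroup.mem_center_iff.2 fun x => ?_)
    have h := hc' x
    rw [← hqj, ← Category.assoc, hall (x ≫ q), MonObj.one_comp] at h
    have h2 : g * x * g⁻¹ = x := mul_inv_eq_one.1 h.symm
    exact ((mul_inv_eq_iff_eq_mul.1 h2)).symm

omit [IsAlgClosed k] in
/-- The additive group has dimension one. -/
theorem dim_Ga : topologicalKrullDim (Red.Ga 𝕊).left = 1 := by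
  have := isIso_left (exists_iso_Ga (k := k)).choose.hom
  rw [← (exists_iso_Ga (k := k)).choose.hom.left.homeomorph.isHomeomorph.topologicalKrullDim_eq]
  refine (Groth.Ega43Dim.dim_affineSpace k (ULift.{u} (Fin 1))).trans ?_
  simp

omit [IsAlgClosed k] in
theorem smooth_Ga : Smooth (Red.Ga 𝕊).hom := by
  have := isIso_left (exists_iso_Ga (k := k)).choose.inv
  have : Smooth (An k 1).hom := Groth.GrpschAbsch.smooth_affineSpace _ _
  rw [← Over.w (exists_iso_Ga (k := k)).choose.inv]
  infer_instance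

omit [IsAlgClosed k] in
theorem isAffine_Ga : IsAffine (Red.Ga 𝕊).left := by
  have := isIso_left (exists_iso_Ga (k := k)).choose.inv
  have : IsAffine (An k 1).left := IsAffine.of_isIso (AffineSpace.SpecIso (ULift.{u} (Fin 1)) (CommRingCat.of k)).hom
  exact IsAffine.of_isIso (exists_iso_Ga (k := k)).choose.inv.left

omit [IsAlgClosed k] in
open Groth.NeronArea.GaCoord Groth.Reductive in
/-- The homomorphism to the additive group of a primitive function. -/
theorem exists_hom_Ga {K : Over 𝕊} [GrpObj K] {A : Type u} [CommRing A] [HopfAlgebra k A]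
    (e : CoactBr.sp k A ≅ K) [IsMonHom e.hom] {x : A}
    (hx : Coalgebra.comul (R := k) x = x ⊗ₜ[k] (1 : A) + (1 : A) ⊗ₜ[k] x) :
    ∃ χ : K ⟶ Red.Ga 𝕊, IsMonHom χ ∧ (χ = 1 → x = 0) := by
  let X := CoactBr.sp k A
  let T : Γ(X.left, ⊤) := (Scheme.ΓSpecIso (CommRingCat.of A)).inv x
  haveI : IsMonHom (gaMk X T) := by
    refine Groth.AlgGrp2.isMonHom_of_pt (R := k) (A := A) (gaMk X T) fun g h => ?_
    obtain ⟨φ, rfl⟩ := Groth.AlgGrp2.pt_surjective g
    obtain ⟨ψ, rfl⟩ := Groth.AlgGrp2.pt_surjective h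
    apply gaFn_injective
    rw [gaFn_mul, gaFn_comp, gaFn_comp, gaFn_comp, gaFn_gaMk, Groth.Agent.S12500.fn_pt,
      Groth.Agent.S12500.fn_pt, CoactBr.pt_mul_pt, Groth.Agent.S12500.fn_pt]
    refine (congrArg _ ?_).trans (map_add (Scheme.ΓSpecIso (CommRingCat.of (A ⊗[k] A))).inv.hom (φ x) (ψ x))
    simp only [AlgHom.comp_apply, Bialgebra.comulAlgHom_apply, hx, map_add,
      Algebra.TensorProduct.lift_tmul, map_one, _root_.mul_one, _root_.one_mul]
  haveI := Groth.URad.isMonHom_inv e
  refine ⟨e.inv ≫ gaMk X T, inferInstance, fun h => ?_⟩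
  have h1 : gaMk X T = 1 := by
    rw [← e.hom_inv_id_assoc (gaMk X T), h, MonObj.comp_one]
  have h2 := congrArg Red.gaFn h1
  rw [gaFn_gaMk, Groth.GrpschAbsch.gaFn_one] at h2
  exact (Scheme.ΓSpecIso (CommRingCat.of A)).commRingCatIsoToRingEquiv.symm.injective (h2.trans (map_zero _).symm)

omit [IsAlgClosed k] in
/-- Points with constant coordinates are equal. -/
theorem pt_eq_of_span {G : Over 𝕊} {A : Type u} [CommRing A] [Algebra k A] (e : CoactBr.sp k A ≅ G)
    (h : ∀ b : A, b ∈ Submodule.span k {(1 : A)}) (x y : pt ⟶ G) : x = y := by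
  rw [← cancel_mono e.inv, Groth.Reductive2.UnipTriv.eq_tP_pt (x ≫ e.inv),
    Groth.Reductive2.UnipTriv.eq_tP_pt (y ≫ e.inv)]
  congr 2
  refine AlgHom.ext fun b => ?_
  obtain ⟨c, rfl⟩ := Submodule.mem_span_singleton.1 (h b)
  rw [map_smul, map_smul, map_one, map_one]

/-- A closed subgroup with closed immersion onto everything kills no character. -/
theorem comp_eq_one_of_surjective {G H K : Over 𝕊} [GrpObj H] [LocallyOfFiniteType G.hom] [Smooth K.hom]
    [IsSeparated H.hom] (i : G ⟶ K) [Surjective i.left] (χ : K ⟶ H) (h : i ≫ χ = 1) : χ = 1 := by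
  refine hom_ext_points fun t => ?_
  obtain ⟨z, rfl⟩ := Groth.AlgGrp1.exists_rpt_lift i t (i.left.surjective _)
  rw [Category.assoc, h, MonObj.comp_one, MonObj.comp_one]

/-- A nontrivial connected unipotent group contains a central additive group. -/
theorem exists_central_Ga [Smooth U.hom] [ConnectedSpace U.left] (hU : Groth.URad.IsUnip U)
    (hne : ∃ x : pt ⟶ U, x ≠ 1) :
    ∃ j : Red.Ga 𝕊 ⟶ U, IsMonHom j ∧ IsClosedImmersion j.left ∧ IsCentral j := by
  classical
  have := hU.isAffine
  have := LocallyOfFiniteType.isLocallyNoetherian U.hom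
  have : CompactSpace U.left := QuasiCompact.compactSpace_of_compactSpace U.hom
  have : AlgebraicGeometry.IsNoetherian U.left := ⟨⟩
  let 𝒮 : Set (Closeds U.left) := {C | ∃ (K : Over 𝕊) (_ : GrpObj K) (c : K ⟶ U), IsMonHom c ∧
    IsClosedImmersion c.left ∧ Smooth K.hom ∧ ConnectedSpace K.left ∧ IsCentral c ∧ (∃ x : pt ⟶ K, x ≠ 1) ∧
    Set.range c.left = (C : Set U.left)}
  have h𝒮 : 𝒮.Nonempty := by
    obtain ⟨K, _, c, h1, h2, h3, h4, h5, h6⟩ := exists_central_sub hU hne
    exact ⟨⟨Set.range c.left, c.left.isClosedEmbedding.isClosed_range⟩, K, _, c, h1, h2, h3, h4, h5, h6, rfl⟩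
  obtain ⟨C, ⟨K, _, c, hc, hcc, hKs, hKc, hcen, hKne, hC⟩, hmin⟩ :=
    (wellFounded_lt (α := Closeds U.left)).has_min 𝒮 h𝒮
  haveI := hc; haveI := hcc; haveI := hKs; haveI := hKc
  have : Mono c := Over.mono_of_mono_left c
  have : IsAffine K.left := isAffine_of_isAffineHom c.left
  have hKU : Groth.URad.IsUnip K := hU.of_closedImmersion c
  obtain ⟨A, _, _, _, _, e, he, hA⟩ := Groth.Misc1.Unip.exists_unipotent_hopf K hKU.hasNoSubtorus
  haveI := he
  obtain ⟨x₀, hx₀⟩ := hKne
  obtain ⟨b, hb⟩ : ∃ b : A, b ∉ Submodule.span k {(1 : A)} := by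
    by_contra h
    push Not at h
    exact hx₀ (pt_eq_of_span e h _ _)
  obtain ⟨x, hx0, hx⟩ := Groth.Misc1.Unip.exists_primitive_of_exhaustive
    (fun a => Groth.ComodLib.exists_mem_fixSeries hA a) hb
  obtain ⟨χ, hχ, hχ1⟩ := exists_hom_Ga e hx
  haveI := hχ
  -- the reduced kernel
  have := Groth.AlgGrp1.isSeparated_grpObj (Red.Ga 𝕊)
  have := isAffine_Ga (k := k)
  have := smooth_Ga (k := k)
  have hker : AlgGrp.IsKernel (pullback.fst χ η[Red.Ga 𝕊]) χ := by
    show IsPullback _ (toUnit _) χ η[Red.Ga 𝕊]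
    rw [toUnit_unique (toUnit _) (pullback.snd χ η[Red.Ga 𝕊])]
    exact IsPullback.of_hasPullback χ η[Red.Ga 𝕊]
  let i := pullback.fst χ η[Red.Ga 𝕊]
  have := Groth.AlgGrp1.IsKernel.mono hker
  obtain ⟨_, _⟩ := Groth.Agf.exists_grpObj_of_subgroup i (fun T g => g ≫ χ = 1)
    (fun T g => Groth.AlgGrp1.IsKernel.exists_iff hker g) (fun T => MonObj.one_comp χ)
    (fun T a b ha hb => by
      rw [@MonObj.mul_comp _ _ _ _ _ _ _ _ a b χ hχ, ha, hb]; exact _root_.mul_one (1 : T ⟶ Red.Ga 𝕊))
    (fun T a ha => by rw [@GrpObj.inv_comp _ _ _ _ _ _ _ _ a χ hχ, ha]; exact _root_.inv_one (G := T ⟶ Red.Ga 𝕊))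
  have : IsClosedImmersion i.left := by
    have : IsClosedImmersion (η[Red.Ga 𝕊]).left := by
      have : IsClosedImmersion ((η[Red.Ga 𝕊]).left ≫ (Red.Ga 𝕊).hom) := by
        rw [Over.w]; exact inferInstanceAs (IsClosedImmersion (𝟙 _))
      exact IsClosedImmersion.of_comp _ (Red.Ga 𝕊).hom
    exact MorphismProperty.of_isPullback (P := @IsClosedImmersion) (hker.map (Over.forget 𝕊)).flip ‹_›
  have : LocallyOfFiniteType (pullback χ η[Red.Ga 𝕊]).hom := by rw [← Over.w i]; infer_instance
  obtain ⟨Z, _, cZ, _, _, _, _, _⟩ := Groth.AlgGrp1.exists_reduced_subgroup_lft (pullback χ η[Red.Ga 𝕊])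
  have : IsClosedImmersion (cZ ≫ i).left := by rw [Over.comp_left]; infer_instance
  have : IsSeparated Z.hom := by rw [← Over.w (cZ ≫ i)]; infer_instance
  have : QuasiCompact Z.hom := by rw [← Over.w (cZ ≫ i)]; infer_instance
  have : Finite (pt ⟶ Z) := by
    refine Groth.GaDual.WittUnip.finite_pt_of_neutral Z fun K' _ d hd hdc hds hdk => ?_
    by_contra hK'
    push Not at hK'
    let m : K' ⟶ K := d ≫ cZ ≫ i
    have : IsClosedImmersion m.left := by simp only [m, Over.comp_left]; infer_instance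
    have : IsClosedImmersion (m ≫ c).left := by rw [Over.comp_left]; infer_instance
    have : IsMonHom m := inferInstanceAs (IsMonHom (_ ≫ _))
    let C' : Closeds U.left := ⟨Set.range (m ≫ c).left, (m ≫ c).left.isClosedEmbedding.isClosed_range⟩
    have hle : C' ≤ C := by
      rintro _ ⟨z, rfl⟩
      show (m ≫ c).left z ∈ (C : Set U.left)
      rw [← hC]
      exact ⟨m.left z, rfl⟩
    have hnlt : ¬ C' < C := hmin C' ⟨K', inferInstance, m ≫ c, inferInstance, inferInstance, hds, hdk,
      fun T a g => by rw [← Category.assoc]; exact hcen T _ g, hK', rfl⟩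
    have heq : C' = C := hle.eq_of_not_lt hnlt
    have : Surjective m.left := ⟨fun z => by
      obtain ⟨w, hw⟩ : c.left z ∈ Set.range (m ≫ c).left := by
        show c.left z ∈ (C' : Set U.left)
        rw [heq, ← hC]
        exact ⟨z, rfl⟩
      exact ⟨w, c.left.isClosedEmbedding.injective hw⟩⟩
    refine hx0 (hχ1 (comp_eq_one_of_surjective m χ ?_))
    simp only [m, Category.assoc, show i ≫ χ = 1 from Groth.AlgGrp1.IsKernel.comp_eq_one hker, MonObj.comp_one]
  have hkfin : {y : pt ⟶ K | y ≫ χ = 1}.Finite :=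
    (Set.finite_range (fun z : pt ⟶ Z => z ≫ cZ ≫ i)).subset fun y hy => by
      obtain ⟨n, hn⟩ := Groth.AlgGrp1.IsKernel.exists_lift hker y hy
      obtain ⟨z, hz⟩ := Groth.AlgGrp1.exists_rpt_lift cZ n (cZ.left.surjective _)
      exact ⟨z, show z ≫ cZ ≫ i = y by rw [← Category.assoc, hz, hn]⟩
  -- the character is finite
  have : QuasiCompact χ.left := inferInstance
  have hfin : IsFinite χ.left := by
    have hone : η[Red.Ga 𝕊].left (IsLocalRing.closedPoint k) = Groth.AlgGrp1.rpt (1 : pt ⟶ Red.Ga 𝕊) := by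
      rw [Hom.one_def, toUnit_unique (toUnit _) (𝟙 _), Category.id_comp]
    set F := χ.left ⁻¹' {η[Red.Ga 𝕊].left (IsLocalRing.closedPoint k)} with hF
    have hclosed : IsClosed F := IsClosed.preimage χ.left.continuous (hone ▸ Groth.AlgGrp1.rpt_closed _)
    have := LocallyOfFiniteType.jacobsonSpace K.hom
    have hsub : F ∩ closedPoints K.left ⊆ Groth.AlgGrp1.rpt '' {y : pt ⟶ K | y ≫ χ = 1} := by
      rintro y ⟨hy, hy'⟩
      obtain ⟨z, rfl⟩ := Groth.AlgGrp1.exists_rpt hy'
      refine ⟨z, Groth.AlgGrp1.rpt_injective ?_, rfl⟩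
      rw [← hone, ← (Set.mem_singleton_iff.1 hy)]
      rfl
    have hfin : (F ∩ closedPoints K.left).Finite := (hkfin.image _).subset hsub
    have hFeq : F = F ∩ closedPoints K.left := by
      refine Set.Subset.antisymm (fun y hy => ?_) Set.inter_subset_left
      have hy2 : y ∈ closure (F ∩ closedPoints K.left) := (closure_inter_closedPoints hclosed).symm ▸ hy
      have hc : IsClosed (F ∩ closedPoints K.left) := by
        rw [← Set.biUnion_of_singleton (F ∩ closedPoints K.left)]
        exact hfin.isClosed_biUnion fun z hz => hz.2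
      exact hc.closure_subset hy2
    have hd : _root_.IsDiscrete F := by
      rw [isDiscrete_iff_discreteTopology]
      have : Finite F := (show F.Finite by rw [hFeq]; exact hfin).to_subtype
      have : T1Space F := t1Space_iff_exists_open.2 fun a b hab => by
        refine ⟨((↑) : F → K.left) ⁻¹' {(b : K.left)}ᶜ, ?_, fun e => hab (Subtype.ext e), fun e => e rfl⟩
        exact (IsClosed.isOpen_compl (self := (show IsClosed {(b : K.left)} from
          ((Set.ext_iff.1 hFeq (b : K.left)).1 b.2).2))).preimage continuous_subtype_val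
      infer_instance
    have := Groth.GrpschLoci.lqf_of_discrete_kernel χ hd
    exact Groth.GrpschLoci.isFinite_of_discrete_kernel χ
  -- hence the group is the additive group
  have hdim : ringKrullDim A = 1 := by
    have : IsIso e.hom.left := isIso_left e.hom
    refine le_antisymm ?_ ?_
    · rw [← PrimeSpectrum.topologicalKrullDim_eq_ringKrullDim,
        show topologicalKrullDim (PrimeSpectrum A) = topologicalKrullDim K.left from
          IsHomeomorph.topologicalKrullDim_eq _ e.hom.left.homeomorph.isHomeomorph, ← dim_Ga (k := k)]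
      exact Groth.AlgSpBasic.topologicalKrullDim_le_of_strictMono χ.left
        (Groth.AlgSpBasic.strictMono_of_integral χ.left)
    · by_contra hlt
      rw [not_le] at hlt
      have : Ring.KrullDimLE 0 A := (ringKrullDimZero_iff_ringKrullDim_eq_zero (R := A)).2
        (le_antisymm ((ENat.WithBot.lt_add_one_iff (m := 0)).1 (by simpa using hlt)) ringKrullDim_nonneg_of_nontrivial)
      have hF := Ring.KrullDimLE.isField_of_isDomain (R := A)
      have hbot : RingHom.ker (Bialgebra.counitAlgHom k A) = ⊥ := by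
        letI := hF.toField
        exact (Ideal.eq_bot_or_top _).resolve_right (RingHom.ker_ne_top _)
      refine hb (Submodule.mem_span_singleton.2 ⟨Coalgebra.counit (R := k) b, ?_⟩)
      have hinj := (RingHom.injective_iff_ker_eq_bot (Bialgebra.counitAlgHom k A)).2 hbot
      refine hinj ?_
      simp [Bialgebra.counitAlgHom_apply]
  haveI := Groth.Misc1.Unip.DimOne.isCocomm_of_dim_one (k := k) hdim
  obtain ⟨y, hy0, hy, hgen⟩ : ∃ y : A, y ≠ 0 ∧ Groth.Misc1.Unip.DimOne.IsPrim k y ∧ Algebra.adjoin k {y} = ⊤ := by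
    obtain ⟨p, hp⟩ := CharP.exists k
    rcases CharP.char_is_prime_or_zero k p with hp' | rfl
    · haveI := Fact.mk hp'
      exact Groth.Misc1.Unip.DimOne.exists_gen_charP p hdim hA
    · haveI := CharP.charP_to_charZero k
      exact Groth.Misc1.Unip.DimOne.exists_gen_charZero hdim hA
  obtain ⟨E⟩ := Groth.Misc1.Unip.DimOne.nonempty_equiv_sym hy hy0 hgen
  obtain ⟨φ, hφ⟩ := Groth.Agent.S12500.iso_Ga E
  haveI := hφ
  haveI := Groth.URad.isMonHom_inv φ
  refine ⟨φ.inv ≫ e.hom ≫ c, inferInstance, ?_, fun T a g => ?_⟩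
  · have := isIso_left φ.inv
    have := isIso_left e.hom
    simp only [Over.comp_left]
    infer_instance
  · rw [← Category.assoc φ.inv, ← Category.assoc a]
    exact hcen T _ g

end Groth.AlgGrpRat
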